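import Groth.Agent.Lib.Helper2.Stk.Exact

/-!
# Skyscraper `O_X`-modules on a scheme and the adjunction with the stalk functor
-/

set_option autoImplicit false
universe u
open CategoryTheory CategoryTheory.Limits AlgebraicGeometry TopologicalSpace Opposite

namespace Groth.Agent.Lib.Helper2.Stk

variable {X : Scheme.{u}} (x : X)

/-- Sections of the skyscraper at `x` with value `T` over `U`: functions from proofs of `x ∈ U` to `T`
(so `T` if `x ∈ U`, a one-point type otherwise). -/
abbrev SkySec (T : Type u) (U : X.Opens) : Type u := PLift (x ∈ U) → T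

/-- The underlying presheaf of abelian groups of the skyscraper module. -/
noncomputable def skyAb (T : ModuleCat.{u} (X.presheaf.stalk x)) : (Opens X)ᵒᵖ ⥤ Ab.{u} where
  obj U := AddCommGrpCat.of (SkySec x T U.unop)
  map {U V} f := AddCommGrpCat.ofHom
    { toFun := fun φ h => φ ⟨f.unop.le h.down⟩
      map_zero' := rfl
      map_add' := fun _ _ => rfl }
  map_id U := by ext φ; rfl
  map_comp f g := by ext φ; rfl

lemma skyAb_map_apply (T : ModuleCat.{u} (X.presheaf.stalk x)) {U V : (Opens X)ᵒᵖ} (f : U ⟶ V)
    (φ : SkySec x T U.unop) (h : PLift (x ∈ V.unop)) :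
    ((skyAb x T).map f φ : SkySec x T V.unop) h = φ ⟨f.unop.le h.down⟩ := rfl

noncomputable instance skyModule (T : ModuleCat.{u} (X.presheaf.stalk x)) (U : (Opens X)ᵒᵖ) :
    Module ((X.presheaf ⋙ forget₂ CommRingCat RingCat).obj U) ((skyAb x T).obj U) where
  smul r φ := fun h => (X.presheaf.germ U.unop x h.down r) • (φ h : T)
  one_smul φ := by
    funext h
    show (X.presheaf.germ U.unop x h.down (1 : X.presheaf.obj U)) • (φ h : T) = φ h
    rw [map_one, one_smul]
  mul_smul r s φ := by
    funext h
    show (X.presheaf.germ U.unop x h.down (r * s : X.presheaf.obj U)) • (φ h : T) =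
      (X.presheaf.germ U.unop x h.down r) • ((X.presheaf.germ U.unop x h.down s) • (φ h : T))
    rw [map_mul, mul_smul]
  smul_zero r := by
    funext h
    show (X.presheaf.germ U.unop x h.down r) • (0 : T) = 0
    rw [smul_zero]
  smul_add r φ ψ := by
    funext h
    show (X.presheaf.germ U.unop x h.down r) • ((φ h : T) + ψ h) = _
    rw [smul_add]
    rfl
  add_smul r s φ := by
    funext h
    show (X.presheaf.germ U.unop x h.down (r + s : X.presheaf.obj U)) • (φ h : T) = _
    rw [map_add, add_smul]
    rfl
  zero_smul φ := by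
    funext h
    show (X.presheaf.germ U.unop x h.down (0 : X.presheaf.obj U)) • (φ h : T) = 0
    rw [map_zero, zero_smul]

lemma sky_smul_apply (T : ModuleCat.{u} (X.presheaf.stalk x)) (U : (Opens X)ᵒᵖ)
    (r : (X.presheaf ⋙ forget₂ CommRingCat RingCat).obj U) (φ : (skyAb x T).obj U)
    (h : PLift (x ∈ U.unop)) :
    ((r • φ : (skyAb x T).obj U) : SkySec x T U.unop) h =
      (X.presheaf.germ U.unop x h.down r) • ((φ : SkySec x T U.unop) h : T) := rfl

/-- The skyscraper presheaf of modules. -/
noncomputable def skyPre (T : ModuleCat.{u} (X.presheaf.stalk x)) :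
    PresheafOfModules.{u} (X.presheaf ⋙ forget₂ CommRingCat RingCat) :=
  PresheafOfModules.ofPresheaf (skyAb x T) (by
    intro U V f r φ
    funext h
    show (X.presheaf.germ U.unop x _ r) • ((φ : SkySec x T U.unop) ⟨f.unop.le h.down⟩ : T) =
      (X.presheaf.germ V.unop x h.down (X.presheaf.map f r)) •
        ((φ : SkySec x T U.unop) ⟨f.unop.le h.down⟩ : T)
    congr 1
    exact (TopCat.Presheaf.germ_res_apply X.presheaf f.unop x h.down r).symm)

theorem skyAb_isSheaf (T : ModuleCat.{u} (X.presheaf.stalk x)) :
    TopCat.Presheaf.IsSheaf (X := X.toTopCat) (skyAb x T) := by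
  rw [TopCat.Presheaf.isSheaf_iff_isSheafUniqueGluing]
  intro ι U sf hsf
  have key : ∀ (i j : ι) (hi : x ∈ U i) (hj : x ∈ U j),
      (sf i : SkySec x T (U i)) ⟨hi⟩ = (sf j : SkySec x T (U j)) ⟨hj⟩ := by
    intro i j hi hj
    have := congrFun (hsf i j) ⟨(⟨hi, hj⟩ : x ∈ U i ⊓ U j)⟩
    exact this
  refine ⟨(fun h => (sf (Opens.mem_iSup.1 h.down).choose : SkySec x T _)
      ⟨(Opens.mem_iSup.1 h.down).choose_spec⟩ : SkySec x T (iSup U)), ?_, ?_⟩
  · intro i
    funext h
    exact key _ i _ h.down
  · intro s' hs'
    funext h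
    have h1 := congrFun (hs' (Opens.mem_iSup.1 h.down).choose)
      ⟨(Opens.mem_iSup.1 h.down).choose_spec⟩
    exact h1

/-- The skyscraper `O_X`-module at `x` with value the `O_{X,x}`-module `T`. -/
noncomputable def sky (T : ModuleCat.{u} (X.presheaf.stalk x)) : X.Modules where
  val := skyPre x T
  isSheaf := skyAb_isSheaf x T

lemma sky_presheaf (T : ModuleCat.{u} (X.presheaf.stalk x)) :
    (sky x T).presheaf = skyAb x T := rfl

/-- Functoriality of the skyscraper module. -/
noncomputable def skyMap {T T' : ModuleCat.{u} (X.presheaf.stalk x)} (g : T ⟶ T') :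
    sky x T ⟶ sky x T' :=
  ⟨PresheafOfModules.homMk (M₁ := skyPre x T) (M₂ := skyPre x T')
    { app := fun U => AddCommGrpCat.ofHom
        { toFun := fun (φ : SkySec x T U.unop) => ((fun h => g (φ h)) : SkySec x T' U.unop)
          map_zero' := by funext h; exact map_zero g.hom
          map_add' := fun φ ψ => by funext h; exact map_add g.hom _ _ }
      naturality := fun U V f => by ext φ; rfl }
    (by
      intro U r φ
      funext h
      exact map_smul g.hom _ _)⟩

lemma skyMap_app_apply {T T' : ModuleCat.{u} (X.presheaf.stalk x)} (g : T ⟶ T') (U : X.Opens)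
    (φ : SkySec x T U) (h : PLift (x ∈ U)) :
    ((skyMap x g).app U φ : SkySec x T' U) h = g (φ h) := rfl

/-- The skyscraper functor. -/
noncomputable def skyF : ModuleCat.{u} (X.presheaf.stalk x) ⥤ X.Modules where
  obj T := sky x T
  map g := skyMap x g
  map_id T := by
    apply Scheme.Modules.hom_ext
    intro U
    ext φ
    rfl
  map_comp f g := by
    apply Scheme.Modules.hom_ext
    intro U
    ext φ
    rfl

instance additive_skyF : (skyF x).Additive where
  map_add {T T' f g} := by
    apply Scheme.Modules.hom_ext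
    intro U
    ext φ
    rfl

/-- Maps out of a stalk from compatible families of additive maps on sections. -/
noncomputable def stalkDesc (M : X.Modules) (T : Type u) [AddCommGroup T]
    (φ : ∀ (U : X.Opens) (_ : x ∈ U), ↑(M.presheaf.obj (op U)) →+ T)
    (hφ : ∀ (U V : X.Opens) (i : V ⟶ U) (hx : x ∈ V) (s : ↑(M.presheaf.obj (op U))),
      φ V hx (M.presheaf.map i.op s) = φ U (i.le hx) s) :
    ↑(M.presheaf.stalk x) →+ T :=
  (colimit.desc ((OpenNhds.inclusion x).op ⋙ M.presheaf)
    { pt := AddCommGrpCat.of T
      ι :=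
        { app := fun U => AddCommGrpCat.ofHom (φ U.unop.1 U.unop.2)
          naturality := by
            intro U V f
            ext s
            exact hφ U.unop.1 V.unop.1 ((OpenNhds.inclusion x).map f.unop) V.unop.2 s } }).hom

lemma stalkDesc_germ (M : X.Modules) (T : Type u) [AddCommGroup T]
    (φ : ∀ (U : X.Opens) (_ : x ∈ U), ↑(M.presheaf.obj (op U)) →+ T)
    (hφ : ∀ (U V : X.Opens) (i : V ⟶ U) (hx : x ∈ V) (s : ↑(M.presheaf.obj (op U))),
      φ V hx (M.presheaf.map i.op s) = φ U (i.le hx) s)
    (U : X.Opens) (hx : x ∈ U) (s : ↑(M.presheaf.obj (op U))) :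
    stalkDesc x M T φ hφ (M.presheaf.germ U x hx s) = φ U hx s := by
  have h := colimit.ι_desc
    ({ pt := AddCommGrpCat.of T
       ι :=
        { app := fun U => AddCommGrpCat.ofHom (φ U.unop.1 U.unop.2)
          naturality := by
            intro U V f
            ext s
            exact hφ U.unop.1 V.unop.1 ((OpenNhds.inclusion x).map f.unop) V.unop.2 s } } :
      Cocone ((OpenNhds.inclusion x).op ⋙ M.presheaf)) (op ⟨U, hx⟩)
  exact ConcreteCategory.congr_hom h s

lemma germ_smul' (M : X.Modules) (U : X.Opens) (hx : x ∈ U) (r : X.presheaf.obj (op U))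
    (s : ↑(M.presheaf.obj (op U))) :
    M.presheaf.germ U x hx (r • s) = X.presheaf.germ U x hx r • M.presheaf.germ U x hx s :=
  PresheafOfModules.germ_smul (R := X.presheaf)
    (show PresheafOfModules (X.presheaf ⋙ forget₂ CommRingCat RingCat) from M.val) x U hx r s

lemma exists_rep_smul (M : X.Modules) (r : X.presheaf.stalk x) (a : M.presheaf.stalk x) :
    ∃ (U : X.Opens) (hx : x ∈ U) (ρ : X.presheaf.obj (op U)) (s : ↑(M.presheaf.obj (op U))),
      X.presheaf.germ U x hx ρ = r ∧ M.presheaf.germ U x hx s = a := by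
  obtain ⟨U₁, hx₁, s₁, h₁⟩ := TopCat.Presheaf.exists_germ_eq M.presheaf a
  obtain ⟨U₂, hx₂, ρ₂, h₂⟩ := TopCat.Presheaf.exists_germ_eq X.presheaf r
  refine ⟨U₁ ⊓ U₂, ⟨hx₁, hx₂⟩, X.presheaf.map (homOfLE inf_le_right).op ρ₂,
    M.presheaf.map (homOfLE inf_le_left).op s₁, ?_, ?_⟩
  · rw [TopCat.Presheaf.germ_res_apply, h₂]
  · rw [TopCat.Presheaf.germ_res_apply, h₁]

/-- Evaluation of a section of the skyscraper at the point. -/
noncomputable def skyEval (T : ModuleCat.{u} (X.presheaf.stalk x)) (U : X.Opens) (hx : x ∈ U) :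
    ↑((sky x T).presheaf.obj (op U)) →+ T where
  toFun φ := (φ : SkySec x T U) ⟨hx⟩
  map_zero' := rfl
  map_add' _ _ := rfl

/-- The counit on underlying groups. -/
noncomputable def counitAdd (T : ModuleCat.{u} (X.presheaf.stalk x)) :
    ↑((sky x T).presheaf.stalk x) →+ T :=
  stalkDesc x (sky x T) T (fun U hx => skyEval x T U hx) (fun U V i hx s => rfl)

lemma counitAdd_germ (T : ModuleCat.{u} (X.presheaf.stalk x)) (U : X.Opens) (hx : x ∈ U)
    (φ : ↑((sky x T).presheaf.obj (op U))) :
    counitAdd x T ((sky x T).presheaf.germ U x hx φ) = (φ : SkySec x T U) ⟨hx⟩ :=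
  stalkDesc_germ x (sky x T) T _ _ U hx φ

/-- The counit `(sky_x T)_x ⟶ T`. -/
noncomputable def counitApp (T : ModuleCat.{u} (X.presheaf.stalk x)) :
    (Φ x).obj (sky x T) ⟶ T :=
  ModuleCat.ofHom
    { toFun := counitAdd x T
      map_add' := map_add _
      map_smul' := by
        intro r a
        obtain ⟨U, hx, ρ, φ, rfl, rfl⟩ := exists_rep_smul x (sky x T) r a
        rw [← germ_smul', counitAdd_germ]
        simp only [RingHom.id_apply]
        rw [counitAdd_germ]
        rfl }

lemma counitApp_germ (T : ModuleCat.{u} (X.presheaf.stalk x)) (U : X.Opens) (hx : x ∈ U)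
    (φ : ↑((sky x T).presheaf.obj (op U))) :
    counitApp x T ((sky x T).presheaf.germ U x hx φ) = (φ : SkySec x T U) ⟨hx⟩ :=
  counitAdd_germ x T U hx φ

/-- The unit `M ⟶ sky_x (M_x)`. -/
noncomputable def unitApp (M : X.Modules) : M ⟶ sky x ((Φ x).obj M) :=
  ⟨PresheafOfModules.homMk (M₁ := M.val) (M₂ := skyPre x ((Φ x).obj M))
    { app := fun U => AddCommGrpCat.ofHom
        { toFun := fun (s : ↑(M.presheaf.obj U)) =>
            ((fun h => M.presheaf.germ U.unop x h.down s) : SkySec x ((Φ x).obj M) U.unop)
          map_zero' := by funext h; exact map_zero _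
          map_add' := fun s t => by funext h; exact map_add _ _ _ }
      naturality := fun U V f => by
        ext s
        funext h
        exact TopCat.Presheaf.germ_res_apply M.presheaf f.unop x h.down s }
    (by
      intro U r s
      funext h
      exact germ_smul' x M U.unop h.down r s)⟩

lemma unitApp_app_apply (M : X.Modules) (U : X.Opens) (s : ↑(M.presheaf.obj (op U)))
    (h : PLift (x ∈ U)) :
    ((unitApp x M).app U s : SkySec x ((Φ x).obj M) U) h = M.presheaf.germ U x h.down s := rfl

/-- The adjunction between the stalk functor and the skyscraper functor. -/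
noncomputable def stalkSkyAdj : Φ x ⊣ skyF x :=
  Adjunction.mkOfUnitCounit
    { unit :=
        { app := fun M => unitApp x M
          naturality := by
            intro M M' a
            apply Scheme.Modules.hom_ext
            intro U
            ext s
            funext h
            show M'.presheaf.germ U x h.down (a.app U s) =
              (Φ x).map a (M.presheaf.germ U x h.down s)
            exact (DerSch.stalkFunctor_map_germ x a U h.down s).symm }
      counit :=
        { app := fun T => counitApp x T
          naturality := by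
            intro T T' g
            ext a
            obtain ⟨U, hx, φ, rfl⟩ := TopCat.Presheaf.exists_germ_eq (sky x T).presheaf a
            show counitApp x T' ((Φ x).map (skyMap x g) ((sky x T).presheaf.germ U x hx φ)) =
              g (counitApp x T ((sky x T).presheaf.germ U x hx φ))
            rw [DerSch.stalkFunctor_map_germ, counitApp_germ, counitApp_germ]
            rfl }
      left_triangle := by
        ext M a
        obtain ⟨U, hx, s, rfl⟩ := TopCat.Presheaf.exists_germ_eq M.presheaf a
        show counitApp x ((Φ x).obj M)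
          ((Φ x).map (unitApp x M) (M.presheaf.germ U x hx s)) = M.presheaf.germ U x hx s
        rw [DerSch.stalkFunctor_map_germ, counitApp_germ]
        rfl
      right_triangle := by
        ext T U φ
        funext h
        show counitApp x T ((sky x T).presheaf.germ U x h.down φ) = (φ : SkySec x T U) h
        rw [counitApp_germ] }

instance isLeftAdjoint_Φ : (Φ x).IsLeftAdjoint := (stalkSkyAdj x).isLeftAdjoint

instance preservesColimit_Φ {J : Type*} [Category J] (K : J ⥤ X.Modules) :
    PreservesColimit K (Φ x) :=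
  ((stalkSkyAdj x).leftAdjoint_preservesColimits.preservesColimitsOfShape).preservesColimit

/-- The stalk of the skyscraper at its point is the value. -/
instance isIso_counitApp (T : ModuleCat.{u} (X.presheaf.stalk x)) : IsIso (counitApp x T) := by
  rw [ConcreteCategory.isIso_iff_bijective]
  constructor
  · rw [injective_iff_map_eq_zero]
    intro a ha
    obtain ⟨U, hx, φ, rfl⟩ := TopCat.Presheaf.exists_germ_eq (sky x T).presheaf a
    rw [counitApp_germ] at ha
    have : φ = 0 := by
      funext h
      exact ha
    rw [this, map_zero]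
    rfl
  · intro t
    refine ⟨(sky x T).presheaf.germ ⊤ x trivial ((fun _ => t) : SkySec x T ⊤), ?_⟩
    rw [counitApp_germ]

/-- `Φ_x ∘ sky_x ≅ id`. -/
noncomputable def skyStalkIso : skyF x ⋙ Φ x ≅ 𝟭 _ :=
  NatIso.ofComponents (fun T => @asIso _ _ _ _ (counitApp x T) (isIso_counitApp x T))
    (fun g => (stalkSkyAdj x).counit.naturality g)

end Groth.Agent.Lib.Helper2.Stk
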