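import Groth.Agent.Lib.Helper2.Stk.PreMap
import Groth.Agent.Lib.Helper13.ModSiteTensor
import Groth.Prelude.Def_DerSch
import Groth.Prelude.Def_DCoh4

/-!
# The stalk of the tensor product of `O_X`-modules on a scheme

`(A ⊗ F)_x ≅ A_x ⊗_{O_{X,x}} F_x`, naturally in `A` and `F`, in terms of the prelude's
`DerSch.stalkFunctor` and `DCoh.tensorBi`.
-/

set_option autoImplicit false
universe u
open CategoryTheory CategoryTheory.Limits AlgebraicGeometry TopologicalSpace Opposite
  MonoidalCategory TensorProduct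
open Groth.Agent.Lib.Helper13 Groth.Agent.Lib.Helper13.TensorLocal
  Groth.Agent.Lib.Helper13.ModSiteTensor

namespace Groth.Agent.Lib.Helper2.Stk

variable {X : Scheme.{u}}

/-- The stalk functor of the prelude. -/
noncomputable abbrev Φ (x : X) : X.Modules ⥤ ModuleCat.{u} (X.presheaf.stalk x) :=
  DerSch.stalkFunctor X x

/-- The unit of sheafification. -/
noncomputable abbrev ηsh (P : PMod X.sheaf) : P ⟶ (fgt X.sheaf).obj ((shf X.sheaf).obj P) :=
  (shfAdj X.sheaf).unit.app P

/-- The stalk of the sheafification is the stalk. -/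
noncomputable def shStalkEquiv (P : PMod X.sheaf) (x : X) :
    St (R := X.presheaf) P x ≃ₗ[X.presheaf.stalk x]
      St (R := X.presheaf) ((fgt X.sheaf).obj ((shf X.sheaf).obj P)) x :=
  LinearEquiv.ofBijective (stMapₗ (R := X.presheaf) (ηsh P) x)
    (stMap_bijective (R := X.presheaf) (ηsh P)
      (locInj_unit (𝟙 (ModSite.ringSh X.sheaf).obj) P)
      (locSurj_unit (𝟙 (ModSite.ringSh X.sheaf).obj) P) x)

lemma shStalkEquiv_apply (P : PMod X.sheaf) (x : X) (a : St (R := X.presheaf) P x) :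
    shStalkEquiv P x a = stMap (R := X.presheaf) (ηsh P) x a := rfl

lemma shStalkEquiv_naturality {P P' : PMod X.sheaf} (g : P ⟶ P') (x : X)
    (a : St (R := X.presheaf) P x) :
    stMap (R := X.presheaf) ((fgt X.sheaf).map ((shf X.sheaf).map g)) x (shStalkEquiv P x a) =
      shStalkEquiv P' x (stMap (R := X.presheaf) g x a) := by
  rw [shStalkEquiv_apply, shStalkEquiv_apply, ← stMap_comp, ← stMap_comp]
  congr 2
  exact ((shfAdj X.sheaf).unit.naturality g).symm

lemma Φ_map_apply {A A' : X.Modules} (a : A ⟶ A') (x : X) (m : A.presheaf.stalk x) :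
    (Φ x).map a m = stMap (R := X.presheaf) ((fgt X.sheaf).map a) x m := rfl

/-- The stalk of the tensor product, as a linear equivalence. -/
noncomputable def tensorStalkLinearEquiv (A F : X.Modules) (x : X) :
    (A.presheaf.stalk x ⊗[X.presheaf.stalk x] F.presheaf.stalk x) ≃ₗ[X.presheaf.stalk x]
      ((DCoh.tensorBi.obj A).obj F).presheaf.stalk x :=
  (tensorStalkEquiv (R := X.presheaf) ((fgt X.sheaf).obj A) ((fgt X.sheaf).obj F) x).trans
    (shStalkEquiv ((fgt X.sheaf).obj A ⊗ (fgt X.sheaf).obj F) x)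

/-- The stalk of the tensor product is the tensor product of the stalks. -/
noncomputable def tensorIso (A F : X.Modules) (x : X) :
    (Φ x).obj A ⊗ (Φ x).obj F ≅ (Φ x).obj ((DCoh.tensorBi.obj A).obj F) :=
  (tensorStalkLinearEquiv A F x).toModuleIso

lemma tensorIso_hom_apply (A F : X.Modules) (x : X)
    (z : A.presheaf.stalk x ⊗[X.presheaf.stalk x] F.presheaf.stalk x) :
    (tensorIso A F x).hom z =
      shStalkEquiv ((fgt X.sheaf).obj A ⊗ (fgt X.sheaf).obj F) x
        (tensorStalkEquiv (R := X.presheaf) ((fgt X.sheaf).obj A) ((fgt X.sheaf).obj F) x z) := rfl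

/-- Naturality of `tensorIso` in both variables at once. -/
lemma tensorIso_naturality {A A' F F' : X.Modules} (a : A ⟶ A') (φ : F ⟶ F') (x : X) :
    (tensorIso A F x).hom ≫
        (Φ x).map ((shf X.sheaf).map ((fgt X.sheaf).map a ⊗ₘ (fgt X.sheaf).map φ)) =
      ((Φ x).map a ⊗ₘ (Φ x).map φ) ≫ (tensorIso A' F' x).hom := by
  ext z
  show (Φ x).map ((shf X.sheaf).map ((fgt X.sheaf).map a ⊗ₘ (fgt X.sheaf).map φ))
      ((tensorIso A F x).hom z) =
    (tensorIso A' F' x).hom (TensorProduct.map ((Φ x).map a).hom ((Φ x).map φ).hom z)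
  rw [tensorIso_hom_apply, tensorIso_hom_apply, Φ_map_apply, shStalkEquiv_naturality]
  exact congrArg (shStalkEquiv ((fgt X.sheaf).obj A' ⊗ (fgt X.sheaf).obj F') x)
    (tensorStalkEquiv_naturality (R := X.presheaf) ((fgt X.sheaf).map a) ((fgt X.sheaf).map φ) x z)

lemma tensorIso_naturality_left {A A' : X.Modules} (a : A ⟶ A') (F : X.Modules) (x : X) :
    (tensorIso A F x).hom ≫ (Φ x).map ((DCoh.tensorBi.map a).app F) =
      ((Φ x).map a ▷ (Φ x).obj F) ≫ (tensorIso A' F x).hom := by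
  have e : (DCoh.tensorBi.map a).app F =
      (shf X.sheaf).map ((fgt X.sheaf).map a ⊗ₘ (fgt X.sheaf).map (𝟙 F)) := by
    show (shf X.sheaf).map ((fgt X.sheaf).map a ▷ (fgt X.sheaf).obj F) = _
    congr 1
  have e' : ((Φ x).map a ▷ (Φ x).obj F) = ((Φ x).map a ⊗ₘ (Φ x).map (𝟙 F)) := by
    rw [CategoryTheory.Functor.map_id, MonoidalCategory.tensorHom_id]
  exact ((congrArg (fun t => (tensorIso A F x).hom ≫ (Φ x).map t) e).trans
    (tensorIso_naturality a (𝟙 F) x)).trans
    (congrArg (fun t => t ≫ (tensorIso A' F x).hom) e'.symm)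

lemma tensorIso_naturality_right (A : X.Modules) {F F' : X.Modules} (φ : F ⟶ F') (x : X) :
    (tensorIso A F x).hom ≫ (Φ x).map ((DCoh.tensorBi.obj A).map φ) =
      ((Φ x).obj A ◁ (Φ x).map φ) ≫ (tensorIso A F' x).hom := by
  have e : (DCoh.tensorBi.obj A).map φ =
      (shf X.sheaf).map ((fgt X.sheaf).map (𝟙 A) ⊗ₘ (fgt X.sheaf).map φ) := by
    show (shf X.sheaf).map ((fgt X.sheaf).obj A ◁ (fgt X.sheaf).map φ) = _
    congr 1
  have e' : ((Φ x).obj A ◁ (Φ x).map φ) = ((Φ x).map (𝟙 A) ⊗ₘ (Φ x).map φ) := by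
    rw [CategoryTheory.Functor.map_id, MonoidalCategory.id_tensorHom]
  exact ((congrArg (fun t => (tensorIso A F x).hom ≫ (Φ x).map t) e).trans
    (tensorIso_naturality (𝟙 A) φ x)).trans
    (congrArg (fun t => t ≫ (tensorIso A F' x).hom) e'.symm)

end Groth.Agent.Lib.Helper2.Stk
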