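import Groth.Agent.Lib.Helper2.Stk.Tensor
import Groth.Agent.Lib.Helper17.StalkExact

/-!
# The stalk functors on `O_X`-modules are exact and jointly conservative
-/

set_option autoImplicit false
universe u
open CategoryTheory CategoryTheory.Limits AlgebraicGeometry TopologicalSpace Opposite
open Groth.Agent.Lib.Helper17.StalkExact

namespace Groth.Agent.Lib.Helper2.Stk

variable {X : Scheme.{u}}

lemma Φ_map_eq_stalkLin {F G : X.Modules} (φ : F ⟶ G) (x : X) (m : F.presheaf.stalk x) :
    (Φ x).map φ m = stalkLin φ x m := rfl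

lemma Φ_map_injective {F G : X.Modules} (φ : F ⟶ G) [Mono φ] (x : X) :
    Function.Injective ((Φ x).map φ) := fun a b h => stalkLin_injective φ x h

lemma Φ_map_surjective {F G : X.Modules} (φ : F ⟶ G) [Epi φ] (x : X) :
    Function.Surjective ((Φ x).map φ) := fun b => stalkLin_surjective φ x b

lemma Φ_map_exact (S : ShortComplex X.Modules) (hS : S.ShortExact) (x : X) :
    (S.map (Φ x)).Exact := by
  haveI := hS.mono_f
  rw [ShortComplex.ShortExact.moduleCat_exact_iff_function_exact]
  exact stalkLin_exact S hS.exact x

instance preservesFiniteLimits_Φ (x : X) : PreservesFiniteLimits (Φ x) := by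
  rw [Functor.preservesFiniteLimits_iff_forall_exact_map_and_mono]
  intro S hS
  haveI := hS.mono_f
  exact ⟨Φ_map_exact S hS x, (ModuleCat.mono_iff_injective _).2 (Φ_map_injective S.f x)⟩

instance preservesFiniteColimits_Φ (x : X) : PreservesFiniteColimits (Φ x) := by
  rw [Functor.preservesFiniteColimits_iff_forall_exact_map_and_epi]
  intro S hS
  haveI := hS.epi_g
  exact ⟨Φ_map_exact S hS x, (ModuleCat.epi_iff_surjective _).2 (Φ_map_surjective S.g x)⟩

/-- A module all of whose stalks vanish is zero. -/
theorem isZero_of_forall_isZero_stalk (M : X.Modules) (h : ∀ x : X, IsZero ((Φ x).obj M)) :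
    IsZero M := by
  rw [IsZero.iff_id_eq_zero]
  apply Scheme.Modules.hom_ext
  intro U
  ext s
  show s = 0
  apply TopCat.Presheaf.section_ext (⟨M.presheaf, M.isSheaf⟩ : TopCat.Sheaf Ab X.toTopCat) U
  intro x hx
  haveI : Subsingleton ((Φ x).obj M) := ModuleCat.subsingleton_of_isZero (h x)
  exact Subsingleton.elim (α := ((Φ x).obj M)) _ _

/-- A complex of `O_X`-modules is exact in degree `i` iff all its stalk complexes are. -/
theorem exactAt_iff_stalks (K : CochainComplex X.Modules ℤ) (i : ℤ) :
    K.ExactAt i ↔ ∀ x : X, (((Φ x).mapHomologicalComplex (ComplexShape.up ℤ)).obj K).ExactAt i := by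
  constructor
  · intro h x
    exact h.map (Φ x)
  · intro h
    rw [HomologicalComplex.exactAt_iff, ShortComplex.exact_iff_isZero_homology]
    apply isZero_of_forall_isZero_stalk
    intro x
    have hx : ((K.sc i).map (Φ x)).Exact := h x
    rw [ShortComplex.exact_iff_isZero_homology] at hx
    exact IsZero.of_iso hx ((K.sc i).mapHomologyIso (Φ x)).symm

/-- A complex of `O_X`-modules is acyclic iff all its stalk complexes are. -/
theorem acyclic_iff_stalks (K : CochainComplex X.Modules ℤ) :
    (∀ i : ℤ, IsZero (K.homology i)) ↔ ∀ (x : X) (i : ℤ),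
      IsZero ((((Φ x).mapHomologicalComplex (ComplexShape.up ℤ)).obj K).homology i) := by
  simp only [← HomologicalComplex.exactAt_iff_isZero_homology]
  constructor
  · intro h x i
    exact (exactAt_iff_stalks K i).1 (h i) x
  · intro h i
    exact (exactAt_iff_stalks K i).2 (fun x => h x i)

end Groth.Agent.Lib.Helper2.Stk
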