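import Groth.Agent.Lib.Helper2.Stk.Lpull
import Groth.Agent.Lib.Helper2.Tot.ModSiteRes

/-!
# Tor amplitude of a derived pullback (helper2)
-/

set_option autoImplicit false
universe u
open CategoryTheory CategoryTheory.Limits AlgebraicGeometry TopologicalSpace Opposite
  HomologicalComplex MonoidalCategory TensorProduct
open Groth.Agent.Lib.Helper2.Tot Groth.Agent.Lib.Helper2.LDer

attribute [local instance] HasDerivedCategory.standard

namespace Groth.Agent.Lib.Helper2.Stk

local notation "cc" => ComplexShape.up ℤ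

theorem flat_extendScalars {A B : Type u} [CommRing A] [CommRing B] (φ : A →+* B)
    (M : ModuleCat.{u} A) [Module.Flat A M] :
    Module.Flat B ((ModuleCat.extendScalars.{u, u, u} φ).obj M) := by
  let _ : Algebra A B := φ.toAlgebra
  exact (inferInstance : Module.Flat B (B ⊗[A] M))

variable {X Y : Scheme.{u}} (f : X ⟶ Y)

/-- The pullback of a flat module is flat. -/
theorem isFlat_pullback (M : Y.Modules) (hM : FlatMod.IsFlat M) :
    FlatMod.IsFlat ((Scheme.Modules.pullback f).obj M) := by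
  intro x
  haveI h1 : Module.Flat (Y.presheaf.stalk (f.base x)) ((Φ (f.base x)).obj M) := hM (f.base x)
  haveI h2 := flat_extendScalars (φst f x) ((Φ (f.base x)).obj M)
  exact @Module.Flat.of_linearEquiv (X.presheaf.stalk x) _ _ _ _ _ _ _ h2
    ((pullStalkIso f x).app M).toLinearEquiv

/-- A bounded above complex of flat modules is K-flat. -/
theorem kflat_of_isStrictlyLE (K : CochainComplex Y.Modules ℤ) (b : ℤ) [K.IsStrictlyLE b]
    (hflat : ∀ n, FlatMod.IsFlat (K.X n)) : KFlat (DCoh.tensorBi (X := Y)) K :=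
  (Tot.MS.isKFlat_iff (O := Y.sheaf) K).1
    (@Tot.MS.isKFlat_of_isStrictlyLE _ _ _ Y.sheaf K b ‹K.IsStrictlyLE b›
      (fun n => Groth.Agent.Lib.Helper21.StalkFlatD.isFlat_of_stalkwise _ (hflat n)))

theorem hasFlatAmplitudeIn_Lpull [DCoh.HasLpull f] (E : DCoh.D Y) (a b : ℤ)
    (hE : DCoh.HasFlatAmplitudeIn a b E) :
    DCoh.HasFlatAmplitudeIn a b ((DCoh.Lpull f).obj E) := by
  obtain ⟨E', hv, hflat, ⟨e⟩⟩ := hE
  haveI := DC.isStrictlyLE_of_vanishesOutside E' a b hv
  have hK := kflat_of_isStrictlyLE E' b hflat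
  refine ⟨(pullC f).obj E', ?_, ?_, ⟨(LpullIso f E' hK).symm ≪≫ (DCoh.Lpull f).mapIso e⟩⟩
  · intro i hi
    exact Functor.map_isZero (Scheme.Modules.pullback f) (hv i hi)
  · intro i
    exact isFlat_pullback f _ (hflat i)

theorem hasTorAmplitudeIn_Lpull [DCoh.HasLpull f] (E : DCoh.D Y) (a b : ℤ)
    (hE : DCoh.HasFlatAmplitudeIn a b E) :
    DCoh.HasTorAmplitudeIn a b ((DCoh.Lpull f).obj E) := by
  intro G _ i hi
  exact DC.isZero_HD_of_flatAmplitude G _ a b (hasFlatAmplitudeIn_Lpull f E a b hE) i hi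

end Groth.Agent.Lib.Helper2.Stk
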