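import Groth.Agent.Lib.Helper2.Stk.LpullComp
import Groth.Agent.Lib.Helper2.KInj.DerivedAdjK
import Groth.Agent.Lib.Helper2.ModAcyclicGen

/-!
# The derived pushforward `Rf_*` exists, is right adjoint to `Lf^*`, and composes (helper2)
-/

set_option autoImplicit false
universe u
open CategoryTheory CategoryTheory.Limits AlgebraicGeometry TopologicalSpace Opposite
  HomologicalComplex MonoidalCategory
open Groth.Agent.Lib.Helper2.Tot Groth.Agent.Lib.Helper2.LDer

attribute [local instance] HasDerivedCategory.standard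

namespace Groth.Agent.Lib.Helper2.LDer

universe v₁ v₂ v₃ v₄ u₁ u₂ u₃ u₄

variable {C : Type u₁} {D : Type u₂} {H : Type u₃} {H' : Type u₄}
  [Category.{v₁} C] [Category.{v₂} D] [Category.{v₃} H] [Category.{v₄} H']
  {W : MorphismProperty C} {L : C ⥤ D} {F : C ⥤ H} {P : C → Prop}

/-- An adapted class stays adapted after post-composition. -/
theorem Adapted.comp_right (h : Adapted W L F P) (T : H ⥤ H') : Adapted W L (F ⋙ T) P where
  id_mem := h.id_mem
  comp_mem := h.comp_mem
  frac := h.frac
  rel := fun Y Y₁ Y₂ X s₁ g₁ s₂ g₂ φ hs₁ hs₂ e₁ e₂ => by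
    obtain ⟨Z, t₁, t₂, hW, E₁, E₂⟩ := h.rel s₁ g₁ s₂ g₂ φ hs₁ hs₂ e₁ e₂
    exact ⟨Z, t₁, t₂, hW, congrArg T.map E₁, congrArg T.map E₂⟩
  res := h.res
  inv := fun Y Y' s hY hY' hs => by
    haveI := h.inv s hY hY' hs
    exact inferInstanceAs (IsIso (T.map (F.map s)))

/-- Left derived functors computed by adapted classes are absolute. -/
theorem Adapted.isLeftDerivedFunctor_comp (h : Adapted W L F P) [L.IsLocalization W]
    (LF : D ⥤ H) (α : L ⋙ LF ⟶ F) [LF.IsLeftDerivedFunctor α W] (T : H ⥤ H') :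
    (LF ⋙ T).IsLeftDerivedFunctor
      ((Functor.associator _ _ _).inv ≫ Functor.whiskerRight α T) W := by
  apply (h.comp_right T).isLeftDerivedFunctor_of_isIso
  intro Y hY
  haveI := h.isIso_app LF α hY
  dsimp
  infer_instance

end Groth.Agent.Lib.Helper2.LDer

namespace Groth.Agent.Lib.Helper2.Stk

local notation "cc" => ComplexShape.up ℤ

section

variable (X : Scheme.{u})

instance isGrothendieckAbelian_modules : IsGrothendieckAbelian.{u} X.Modules :=
  inferInstanceAs (IsGrothendieckAbelian.{u} (SheafOfModules.{u} X.ringCatSheaf))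

/-- K-injective resolutions exist for complexes of `O_X`-modules. -/
theorem hKinj (K : CochainComplex X.Modules ℤ) :
    ∃ (I : CochainComplex X.Modules ℤ) (f : K ⟶ I), I.IsKInjective ∧ QuasiIso f := by
  obtain ⟨I, f, h1, h2, _, _⟩ := KInj.exists_kInjective_resolution K
  exact ⟨I, f, h1, h2⟩

end

variable {X Y Z : Scheme.{u}} (f : X ⟶ Y) (g : Y ⟶ Z)

/-- The pushforward functor on homotopy categories. -/
noncomputable abbrev pushK : HomotopyCategory X.Modules cc ⥤ HomotopyCategory Y.Modules cc :=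
  (Scheme.Modules.pushforward f).mapHomotopyCategory cc

/-- The derived pushforward exists. -/
theorem hasRpush : DCoh.HasRpush f :=
  LocalRes.hasRightDerivedFunctor _ (exists_local_resolution (hKinj X)) (DCoh.pushKh f)

/-- The unit of `Rf_*`. -/
noncomputable abbrev unitR (f : X ⟶ Y) [DCoh.HasRpush f] :
    DCoh.pushKh f ⟶ DerivedCategory.Qh ⋙ DCoh.Rpush f :=
  (DCoh.pushKh f).totalRightDerivedUnit DerivedCategory.Qh
    (HomotopyCategory.quasiIso X.Modules cc)

theorem isIso_unitR_app [DCoh.HasRpush f] (I : CochainComplex X.Modules ℤ) [I.IsKInjective] :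
    IsIso ((unitR f).app ((HomotopyCategory.quotient _ _).obj I)) :=
  LocalRes.isIso_unit_app _ (exists_local_resolution (hKinj X)) _ DerivedCategory.Qh (unitR f) _
    (isLocal_quotient_obj_of_isKInjective I inferInstance)

/-- The adjunction `f^* ⊣ f_*` on homotopy categories. -/
noncomputable def pullPushKAdj : pullK f ⊣ pushK f :=
  KInj.homotopyAdj (Scheme.Modules.pullbackPushforwardAdjunction f)

variable [DCoh.HasLpull f] [DCoh.HasRpush f]

instance : (DCoh.Lpull f ⋙ DCoh.Rpush f).IsLeftDerivedFunctor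
    ((Functor.associator _ _ _).inv ≫ Functor.whiskerRight (counitL f) (DCoh.Rpush f))
    (HomotopyCategory.quasiIso Y.Modules cc) :=
  (adapted_pullKh f).isLeftDerivedFunctor_comp (DCoh.Lpull f) (counitL f) (DCoh.Rpush f)

instance : (DCoh.Rpush f ⋙ DCoh.Lpull f).IsRightDerivedFunctor
    (Functor.whiskerRight (unitR f) (DCoh.Lpull f) ≫ (Functor.associator _ _ _).hom)
    (HomotopyCategory.quasiIso X.Modules cc) := by
  apply LocalRes.isRightDerivedFunctor_of_isIso _ (exists_local_resolution (hKinj X))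
  intro K hK
  haveI : IsIso ((unitR f).app K) :=
    LocalRes.isIso_unit_app _ (exists_local_resolution (hKinj X)) _ DerivedCategory.Qh (unitR f) K hK
  dsimp
  infer_instance

/-- The derived adjunction `Lf^* ⊣ Rf_*`. -/
noncomputable def LpullRpushAdj : DCoh.Lpull f ⊣ DCoh.Rpush f :=
  (pullPushKAdj f).derived (HomotopyCategory.quasiIso Y.Modules cc)
    (HomotopyCategory.quasiIso X.Modules cc) (counitL f) (unitR f)

end Groth.Agent.Lib.Helper2.Stk
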