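import Mathlib
import Groth.Prelude.Def_ModSite
import Groth.Agent.Lib.Helper13.ModSiteTensor

/-!
# The associator of the tensor product of sheaves of modules on a ringed site (helper2)
-/

set_option autoImplicit false
universe u
open CategoryTheory CategoryTheory.Limits Opposite MonoidalCategory
open Groth.Agent.Lib.Helper13 Groth.Agent.Lib.Helper13.TensorLocal
open Groth.Agent.Lib.Helper13.ModSiteTensor

namespace Groth.Agent.Lib.Helper2.TAssoc

variable {C : Type u} [SmallCategory C] {J : GrothendieckTopology C} (O : Sheaf J CommRingCat.{u})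

/-- The tensor product of two sheaves of modules, unfolded. -/
noncomputable abbrev tt (A B : ModSite.Mod O) : ModSite.Mod O :=
  (shf O).obj ((fgt O).obj A ⊗ (fgt O).obj B)

lemma tensorBi_obj_obj (A B : ModSite.Mod O) :
    ((ModSite.tensorBi O).obj A).obj B = tt O A B := rfl

/-- `f ⊗ B`. -/
noncomputable abbrev ttL {A A' : ModSite.Mod O} (f : A ⟶ A') (B : ModSite.Mod O) :
    tt O A B ⟶ tt O A' B := (shf O).map ((fgt O).map f ▷ (fgt O).obj B)

/-- `A ⊗ g`. -/
noncomputable abbrev ttR (A : ModSite.Mod O) {B B' : ModSite.Mod O} (g : B ⟶ B') :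
    tt O A B ⟶ tt O A B' := (shf O).map ((fgt O).obj A ◁ (fgt O).map g)

lemma tensorBi_map_app {A A' : ModSite.Mod O} (f : A ⟶ A') (B : ModSite.Mod O) :
    ((ModSite.tensorBi O).map f).app B = ttL O f B := rfl

lemma tensorBi_obj_map (A : ModSite.Mod O) {B B' : ModSite.Mod O} (g : B ⟶ B') :
    ((ModSite.tensorBi O).obj A).map g = ttR O A g := rfl

/-- The sheafification unit, with a simplified type. -/
noncomputable def un (P : PMod O) : P ⟶ (fgt O).obj ((shf O).obj P) := (shfAdj O).unit.app P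

lemma un_naturality {P P' : PMod O} (p : P ⟶ P') :
    p ≫ un O P' = un O P ≫ (fgt O).map ((shf O).map p) :=
  (shfAdj O).unit.naturality p

instance isIso_e₁ (P N : PMod O) : IsIso ((shf O).map (un O P ▷ N)) :=
  isIso_shf_map_unit_whiskerRight O P N

instance isIso_e₂ (N P : PMod O) : IsIso ((shf O).map (N ◁ un O P)) :=
  isIso_shf_map_whiskerLeft (O := O) N (un O P) (locSurj_unit (𝟙 (ModSite.ringSh O).obj) P)
    (locInj_unit (𝟙 (ModSite.ringSh O).obj) P)

/-- `sh ((a ⊗ b) ⊗ c) ⟶ (A ⊗ B) ⊗ C`. -/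
noncomputable def e₁ (A B D : ModSite.Mod O) :
    (shf O).obj (((fgt O).obj A ⊗ (fgt O).obj B) ⊗ (fgt O).obj D) ⟶ tt O (tt O A B) D :=
  (shf O).map (un O ((fgt O).obj A ⊗ (fgt O).obj B) ▷ (fgt O).obj D)

instance (A B D : ModSite.Mod O) : IsIso (e₁ O A B D) := isIso_e₁ O _ _

/-- `sh (a ⊗ (b ⊗ c)) ⟶ A ⊗ (B ⊗ C)`. -/
noncomputable def e₂ (A B D : ModSite.Mod O) :
    (shf O).obj ((fgt O).obj A ⊗ ((fgt O).obj B ⊗ (fgt O).obj D)) ⟶ tt O A (tt O B D) :=
  (shf O).map ((fgt O).obj A ◁ un O ((fgt O).obj B ⊗ (fgt O).obj D))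

instance (A B D : ModSite.Mod O) : IsIso (e₂ O A B D) := isIso_e₂ O _ _

/-- The associator on the presheaf level, sheafified. -/
noncomputable def am (A B D : ModSite.Mod O) :
    (shf O).obj (((fgt O).obj A ⊗ (fgt O).obj B) ⊗ (fgt O).obj D) ⟶
      (shf O).obj ((fgt O).obj A ⊗ ((fgt O).obj B ⊗ (fgt O).obj D)) :=
  (shf O).map (α_ ((fgt O).obj A) ((fgt O).obj B) ((fgt O).obj D)).hom

instance (A B D : ModSite.Mod O) : IsIso (am O A B D) := by unfold am; infer_instance

/-- The associator `(A ⊗ B) ⊗ C ⟶ A ⊗ (B ⊗ C)`. -/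
noncomputable def assocHom (A B D : ModSite.Mod O) :
    tt O (tt O A B) D ⟶ tt O A (tt O B D) :=
  inv (e₁ O A B D) ≫ am O A B D ≫ e₂ O A B D

instance (A B D : ModSite.Mod O) : IsIso (assocHom O A B D) := by unfold assocHom; infer_instance

lemma e₁_assoc (A B D : ModSite.Mod O) :
    e₁ O A B D ≫ assocHom O A B D = am O A B D ≫ e₂ O A B D := by
  simp [assocHom]

/-- Naturality of `e₁` in a map of presheaves `p : a ⊗ b ⟶ a' ⊗ b'`. -/
lemma e₁_naturality {A B A' B' : ModSite.Mod O} (D : ModSite.Mod O)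
    (p : (fgt O).obj A ⊗ (fgt O).obj B ⟶ (fgt O).obj A' ⊗ (fgt O).obj B') :
    e₁ O A B D ≫ (shf O).map ((fgt O).map ((shf O).map p) ▷ (fgt O).obj D) =
      (shf O).map (p ▷ (fgt O).obj D) ≫ e₁ O A' B' D := by
  unfold e₁
  rw [← Functor.map_comp, ← Functor.map_comp, ← comp_whiskerRight, ← comp_whiskerRight,
    un_naturality]

lemma e₂_naturality (A : ModSite.Mod O) {B D B' D' : ModSite.Mod O}
    (p : (fgt O).obj B ⊗ (fgt O).obj D ⟶ (fgt O).obj B' ⊗ (fgt O).obj D') :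
    e₂ O A B D ≫ (shf O).map ((fgt O).obj A ◁ (fgt O).map ((shf O).map p)) =
      (shf O).map ((fgt O).obj A ◁ p) ≫ e₂ O A B' D' := by
  unfold e₂
  rw [← Functor.map_comp, ← Functor.map_comp, ← whiskerLeft_comp, ← whiskerLeft_comp,
    un_naturality]

lemma conj_square {𝒞 : Type*} [Category 𝒞] {X₁ X₂ X₃ X₄ Y₁ Y₂ Y₃ Y₄ : 𝒞}
    (e₁ : X₁ ⟶ X₂) [IsIso e₁] (a : X₁ ⟶ X₃) (e₂ : X₃ ⟶ X₄)
    (e₁' : Y₁ ⟶ Y₂) [IsIso e₁'] (a' : Y₁ ⟶ Y₃) (e₂' : Y₃ ⟶ Y₄)
    (u : X₂ ⟶ Y₂) (u₀ : X₁ ⟶ Y₁) (v₀ : X₃ ⟶ Y₃) (v : X₄ ⟶ Y₄)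
    (s1 : e₁ ≫ u = u₀ ≫ e₁') (s2 : a ≫ v₀ = u₀ ≫ a') (s3 : e₂ ≫ v = v₀ ≫ e₂') :
    u ≫ (inv e₁' ≫ a' ≫ e₂') = (inv e₁ ≫ a ≫ e₂) ≫ v := by
  rw [← cancel_epi e₁, ← Category.assoc, s1]
  simp only [Category.assoc, IsIso.hom_inv_id_assoc]
  rw [← reassoc_of% s2, s3]

lemma assoc_naturality₁ {A A' : ModSite.Mod O} (f : A ⟶ A') (B D : ModSite.Mod O) :
    ttL O (ttL O f B) D ≫ assocHom O A' B D = assocHom O A B D ≫ ttL O f (tt O B D) := by
  refine conj_square (e₁ O A B D) (am O A B D) (e₂ O A B D) (e₁ O A' B D) (am O A' B D)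
    (e₂ O A' B D) _ ((shf O).map (((fgt O).map f ▷ (fgt O).obj B) ▷ (fgt O).obj D))
    ((shf O).map ((fgt O).map f ▷ ((fgt O).obj B ⊗ (fgt O).obj D))) _ ?_ ?_ ?_
  · exact e₁_naturality O (A := A) (B := B) (A' := A') (B' := B) D ((fgt O).map f ▷ (fgt O).obj B)
  · unfold am
    rw [← Functor.map_comp, ← Functor.map_comp, associator_naturality_left]
  · unfold e₂
    rw [← Functor.map_comp, ← Functor.map_comp]
    congr 1
    exact whisker_exchange ((fgt O).map f) (un O ((fgt O).obj B ⊗ (fgt O).obj D))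

lemma assoc_naturality₂ (A : ModSite.Mod O) {B B' : ModSite.Mod O} (g : B ⟶ B')
    (D : ModSite.Mod O) :
    ttL O (ttR O A g) D ≫ assocHom O A B' D = assocHom O A B D ≫ ttR O A (ttL O g D) := by
  refine conj_square (e₁ O A B D) (am O A B D) (e₂ O A B D) (e₁ O A B' D) (am O A B' D)
    (e₂ O A B' D) _ ((shf O).map (((fgt O).obj A ◁ (fgt O).map g) ▷ (fgt O).obj D))
    ((shf O).map ((fgt O).obj A ◁ ((fgt O).map g ▷ (fgt O).obj D))) _ ?_ ?_ ?_
  · exact e₁_naturality O (A := A) (B := B) (A' := A) (B' := B') D ((fgt O).obj A ◁ (fgt O).map g)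
  · unfold am
    rw [← Functor.map_comp, ← Functor.map_comp, associator_naturality_middle]
  · exact e₂_naturality O A (B := B) (D := D) (B' := B') (D' := D) ((fgt O).map g ▷ (fgt O).obj D)

lemma assoc_naturality₃ (A B : ModSite.Mod O) {D D' : ModSite.Mod O} (k : D ⟶ D') :
    ttR O (tt O A B) k ≫ assocHom O A B D' = assocHom O A B D ≫ ttR O A (ttR O B k) := by
  refine conj_square (e₁ O A B D) (am O A B D) (e₂ O A B D) (e₁ O A B D') (am O A B D')
    (e₂ O A B D') _ ((shf O).map (((fgt O).obj A ⊗ (fgt O).obj B) ◁ (fgt O).map k))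
    ((shf O).map ((fgt O).obj A ◁ ((fgt O).obj B ◁ (fgt O).map k))) _ ?_ ?_ ?_
  · unfold e₁
    rw [← Functor.map_comp, ← Functor.map_comp]
    congr 1
    exact (whisker_exchange (un O ((fgt O).obj A ⊗ (fgt O).obj B)) ((fgt O).map k)).symm
  · unfold am
    rw [← Functor.map_comp, ← Functor.map_comp, associator_naturality_right]
  · exact e₂_naturality O A (B := B) (D := D) (B' := B) (D' := D') ((fgt O).obj B ◁ (fgt O).map k)

/-- The associator `(A ⊗ B) ⊗ C ≅ A ⊗ (B ⊗ C)`. -/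
noncomputable def assocIso' (A B D : ModSite.Mod O) :
    tt O (tt O A B) D ≅ tt O A (tt O B D) :=
  asIso (assocHom O A B D)

/-- The associator `(A ⊗ B) ⊗ C ≅ A ⊗ (B ⊗ C)`. -/
noncomputable def assocIso (A B D : ModSite.Mod O) :
    ((ModSite.tensorBi O).obj (((ModSite.tensorBi O).obj A).obj B)).obj D ≅
      ((ModSite.tensorBi O).obj A).obj (((ModSite.tensorBi O).obj B).obj D) :=
  assocIso' O A B D

/-- The associator, natural in the third variable. -/
noncomputable def assocNat₃ (A B : ModSite.Mod O) :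
    ((bifunctorComp₁₂ (ModSite.tensorBi O) (ModSite.tensorBi O)).obj A).obj B ≅
      ((bifunctorComp₂₃ (ModSite.tensorBi O) (ModSite.tensorBi O)).obj A).obj B :=
  NatIso.ofComponents (fun D => assocIso O A B D) (fun {D D'} k => assoc_naturality₃ O A B k)

lemma assocNat₃_hom_app (A B D : ModSite.Mod O) :
    (assocNat₃ O A B).hom.app D = assocHom O A B D := rfl

/-- The associator, natural in the second and third variables. -/
noncomputable def assocNat₂ (A : ModSite.Mod O) :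
    (bifunctorComp₁₂ (ModSite.tensorBi O) (ModSite.tensorBi O)).obj A ≅
      (bifunctorComp₂₃ (ModSite.tensorBi O) (ModSite.tensorBi O)).obj A :=
  NatIso.ofComponents (fun B => assocNat₃ O A B) (fun {B B'} g => by
    apply NatTrans.ext
    funext D
    rw [NatTrans.comp_app, NatTrans.comp_app, assocNat₃_hom_app, assocNat₃_hom_app]
    exact assoc_naturality₂ O A g D)

lemma assocNat₂_hom_app_app (A B D : ModSite.Mod O) :
    ((assocNat₂ O A).hom.app B).app D = assocHom O A B D := rfl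

/-- The associator as an isomorphism of trifunctors. -/
noncomputable def assocNatIso :
    bifunctorComp₁₂ (ModSite.tensorBi O) (ModSite.tensorBi O) ≅
      bifunctorComp₂₃ (ModSite.tensorBi O) (ModSite.tensorBi O) :=
  NatIso.ofComponents (fun A => assocNat₂ O A) (fun {A A'} f => by
    apply NatTrans.ext
    funext B
    apply NatTrans.ext
    funext D
    rw [NatTrans.comp_app, NatTrans.comp_app, NatTrans.comp_app, NatTrans.comp_app,
      assocNat₂_hom_app_app, assocNat₂_hom_app_app]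
    exact assoc_naturality₁ O f B D)

lemma assocNatIso_hom_app (A B D : ModSite.Mod O) :
    (((assocNatIso O).hom.app A).app B).app D = (assocIso O A B D).hom := rfl

end Groth.Agent.Lib.Helper2.TAssoc
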