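import Groth.Prelude.Def_DCoh4
import Groth.Agent.Lib.Helper2.Stk.TensorAssoc
import Groth.Agent.Lib.Helper2.Stk.AssocNat
import Groth.Agent.Lib.Helper2.LDer.DCohTor
import Groth.Agent.Lib.Helper2.LDer.Unique

/-!
# The derived tensor product `- ⊗^L E` on a scheme exists and composes (helper2)
-/

set_option autoImplicit false
universe u
open CategoryTheory CategoryTheory.Limits AlgebraicGeometry HomologicalComplex
open Groth.Agent.Lib.Helper2 Groth.Agent.Lib.Helper2.LDer Groth.Agent.Lib.Helper2.Tot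

attribute [local instance] HasDerivedCategory.standard

namespace Groth.Agent.Lib.Helper2.Stk.LT

variable {X : Scheme.{u}}

local notation "cc" => ComplexShape.up ℤ

/-- The associator of `DCoh.tensorBi`. -/
noncomputable def assocT :
    bifunctorComp₁₂ (DCoh.tensorBi (X := X)) (DCoh.tensorBi (X := X)) ≅
      bifunctorComp₂₃ (DCoh.tensorBi (X := X)) (DCoh.tensorBi (X := X)) :=
  TAssoc.assocNatIso X.sheaf

instance preservesColimit_flip_obj {J : Type} (D : Discrete J ⥤ X.Modules) (Y : X.Modules) :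
    PreservesColimit D ((DCoh.tensorBi (X := X)).flip.obj Y) := by
  haveI : PreservesColimitsOfSize.{0, 0} ((ModSite.tensorBi X.sheaf).flip.obj Y) :=
    preservesSmallestColimits_of_preservesColimits.{u, u} _
  exact (PreservesColimitsOfSize.preservesColimitsOfShape
    (F := (ModSite.tensorBi X.sheaf).flip.obj Y) (J := Discrete J)).preservesColimit

instance preservesColimit_obj {J : Type} (D : Discrete J ⥤ X.Modules) (Y : X.Modules) :
    PreservesColimit D ((DCoh.tensorBi (X := X)).obj Y) := by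
  haveI : PreservesColimitsOfSize.{0, 0} ((ModSite.tensorBi X.sheaf).obj Y) :=
    preservesSmallestColimits_of_preservesColimits.{u, u} _
  exact (PreservesColimitsOfSize.preservesColimitsOfShape
    (F := (ModSite.tensorBi X.sheaf).obj Y) (J := Discrete J)).preservesColimit

instance good₁₂ (K₁ K₂ K₃ : CochainComplex X.Modules ℤ) :
    HasGoodTrifunctor₁₂Obj (DCoh.tensorBi (X := X)) (DCoh.tensorBi (X := X)) K₁ K₂ K₃ cc cc :=
  fun _ _ => inferInstance

instance good₂₃ (K₁ K₂ K₃ : CochainComplex X.Modules ℤ) :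
    HasGoodTrifunctor₂₃Obj (DCoh.tensorBi (X := X)) (DCoh.tensorBi (X := X)) K₁ K₂ K₃ cc cc cc :=
  fun _ _ => inferInstance

/-- The associator for the tensor product of complexes of `O_X`-modules. -/
noncomputable def cxAssoc (K₁ K₂ K₃ : CochainComplex X.Modules ℤ) :
    ((DCoh.tensorCx (X := X)).obj ((DCoh.tensorCx.obj K₁).obj K₂)).obj K₃ ≅
      (DCoh.tensorCx.obj K₁).obj ((DCoh.tensorCx.obj K₂).obj K₃) :=
  mapBifunctorAssociator assocT K₁ K₂ K₃ cc cc cc

/-- `(- ⊗ K) ⊗ L ≅ - ⊗ (K ⊗ L)`. -/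
noncomputable def tensorCompIso (K L : CochainComplex X.Modules ℤ) :
    (DCoh.tensorCx (X := X)).flip.obj K ⋙ (DCoh.tensorCx (X := X)).flip.obj L ≅
      (DCoh.tensorCx (X := X)).flip.obj ((DCoh.tensorCx.obj K).obj L) :=
  NatIso.ofComponents (fun M => cxAssoc M K L) (fun {M M'} f =>
    AN.mapBifunctorAssociator_hom_naturality₁ assocT f K L cc cc cc)

/-- `- ⊗ E` followed by `Q` is adapted to complexes which are K-flat in the first variable. -/
theorem adapted_tensorCxQ (E : CochainComplex X.Modules ℤ) :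
    Adapted (HomologicalComplex.quasiIso X.Modules cc) DerivedCategory.Q (DCoh.tensorCxQ E)
      DC.Good := by
  refine Adapted.of_cochainComplex _ _ ?_ ?_ ?_
  · intro K L f g h
    exact DerivedCategory.Q_map_eq_of_homotopy X.Modules
      (mapBifunctorMapHomotopy₁ h (𝟙 E) (DCoh.tensorBi (X := X)) cc)
  · intro K
    obtain ⟨P, s, hP, _, _, hs, _⟩ := DC.exists_good_resolution K
    exact ⟨P, s, hP, hs⟩
  · intro P P' s hP hP' hs
    haveI := hs
    haveI := DC.quasiIso_map₁_of_good s hP hP' E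
    exact inferInstanceAs (IsIso (DerivedCategory.Q.map
      (mapBifunctorMap s (𝟙 E) (DCoh.tensorBi (X := X)) cc)))

/-- The derived tensor product exists. -/
theorem hasLTensorCx (E : CochainComplex X.Modules ℤ) : DCoh.HasLTensorCx E :=
  (adapted_tensorCxQ E).hasLeftDerivedFunctor

/-- The counit of `- ⊗^L E`. -/
noncomputable abbrev counitT (E : CochainComplex X.Modules ℤ) [DCoh.HasLTensorCx E] :
    DerivedCategory.Q ⋙ DCoh.LTensorCx E ⟶ DCoh.tensorCxQ E :=
  (DCoh.tensorCxQ E).totalLeftDerivedCounit DerivedCategory.Q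
    (HomologicalComplex.quasiIso X.Modules cc)

theorem isIso_counitT_app (E : CochainComplex X.Modules ℤ) [DCoh.HasLTensorCx E]
    (P : CochainComplex X.Modules ℤ) (hP : DC.Good P) : IsIso ((counitT E).app P) :=
  (adapted_tensorCxQ E).isIso_app (DCoh.LTensorCx E) _ hP

/-- `- ⊗^L E` is computed termwise on complexes K-flat in the first variable. -/
noncomputable def LTensorCxIso (E : CochainComplex X.Modules ℤ) [DCoh.HasLTensorCx E]
    (P : CochainComplex X.Modules ℤ) (hP : DC.Good P) :
    (DCoh.LTensorCx E).obj (DCoh.toD X P) ≅ DCoh.toD X ((DCoh.tensorCx.obj P).obj E) :=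
  haveI := isIso_counitT_app E P hP
  asIso ((counitT E).app P)

/-- For K-flat `L`, every complex is adapted to `- ⊗ L`. -/
theorem adapted_tensorCxQ_of_kflat (L : CochainComplex X.Modules ℤ)
    (hL : KFlat (DCoh.tensorBi (X := X)) L) :
    Adapted (HomologicalComplex.quasiIso X.Modules cc) DerivedCategory.Q (DCoh.tensorCxQ L)
      (fun _ => True) := by
  refine Adapted.of_cochainComplex _ _ ?_ ?_ ?_
  · intro K L' f g h
    exact DerivedCategory.Q_map_eq_of_homotopy X.Modules
      (mapBifunctorMapHomotopy₁ h (𝟙 L) (DCoh.tensorBi (X := X)) cc)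
  · intro K
    exact ⟨K, 𝟙 K, trivial, inferInstance⟩
  · intro P P' s _ _ hs
    haveI := hs
    haveI := Tot.quasiIso_map₁_of_kflat hL s
    exact inferInstanceAs (IsIso (DerivedCategory.Q.map
      (mapBifunctorMap s (𝟙 L) (DCoh.tensorBi (X := X)) cc)))

theorem isIso_counitT_app_of_kflat (L : CochainComplex X.Modules ℤ) [DCoh.HasLTensorCx L]
    (hL : KFlat (DCoh.tensorBi (X := X)) L) (P : CochainComplex X.Modules ℤ) :
    IsIso ((counitT L).app P) :=
  (adapted_tensorCxQ_of_kflat L hL).isIso_app (DCoh.LTensorCx L) _ trivial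

section Comp

variable (K L : CochainComplex X.Modules ℤ) [DCoh.HasLTensorCx K] [DCoh.HasLTensorCx L]
  [DCoh.HasLTensorCx ((DCoh.tensorCx.obj K).obj L)]

/-- The comparison exhibiting `(- ⊗^L K) ⊗^L L` as a left derived functor of `- ⊗ (K ⊗ L)`. -/
noncomputable def compβ :
    DerivedCategory.Q ⋙ (DCoh.LTensorCx K ⋙ DCoh.LTensorCx L) ⟶
      DCoh.tensorCxQ ((DCoh.tensorCx.obj K).obj L) :=
  (Functor.associator _ _ _).inv ≫ Functor.whiskerRight (counitT K) (DCoh.LTensorCx L) ≫
    (Functor.associator _ _ _).hom ≫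
    Functor.whiskerLeft ((DCoh.tensorCx (X := X)).flip.obj K) (counitT L) ≫
    (Functor.associator _ _ _).inv ≫
    Functor.whiskerRight (tensorCompIso K L).hom DerivedCategory.Q

lemma compβ_app (P : CochainComplex X.Modules ℤ) :
    (compβ K L).app P = (DCoh.LTensorCx L).map ((counitT K).app P) ≫
      (counitT L).app ((DCoh.tensorCx.obj P).obj K) ≫
      DerivedCategory.Q.map ((tensorCompIso K L).hom.app P) := by
  simp [compβ]

/-- `(- ⊗^L K) ⊗^L L ≅ - ⊗^L (K ⊗ L)` for K-flat `L`. -/
noncomputable def LTensorCxComp (hL : KFlat (DCoh.tensorBi (X := X)) L) :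
    DCoh.LTensorCx K ⋙ DCoh.LTensorCx L ≅ DCoh.LTensorCx ((DCoh.tensorCx.obj K).obj L) :=
  (adapted_tensorCxQ ((DCoh.tensorCx.obj K).obj L)).isoTotalLeftDerived
    (DCoh.LTensorCx K ⋙ DCoh.LTensorCx L) (compβ K L) (fun P hP => by
      rw [compβ_app]
      haveI := isIso_counitT_app K P hP
      haveI := isIso_counitT_app_of_kflat L hL ((DCoh.tensorCx.obj P).obj K)
      infer_instance)

end Comp

end Groth.Agent.Lib.Helper2.Stk.LT
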