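import Groth.Agent.Lib.Helper2.Stk.BaseChange
import Groth.Agent.Lib.Helper2.Tot.DRingSymm
import Groth.Agent.Lib.Helper2.LDer.Single

/-!
# Base change preserves quasi-isomorphisms between K-flat complexes (helper2)
-/

set_option autoImplicit false
universe u
open CategoryTheory CategoryTheory.Limits MonoidalCategory TensorProduct HomologicalComplex
open Groth.Agent.Lib.Helper2.Tot Groth.Agent.Lib.Helper2.LDer
open ChangeOfRings

namespace Groth.Agent.Lib.Helper2.Stk.BC

variable {A B : Type u} [CommRing A] [CommRing B] (φ : A →+* B)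

local notation "res" => resF φ
local notation "ext" => extF φ
local notation "cc" => ComplexShape.up ℤ

/-- `res(B) ⊗_A - ≅ res ∘ ext`. -/
noncomputable def tensorExtIso :
    (DR.T A).obj ((res).obj (𝟙_ (ModuleCat.{u} B))) ≅ (ext) ⋙ (res) :=
  NatIso.ofComponents
    (fun K => pfIso φ (𝟙_ (ModuleCat.{u} B)) K ≪≫ (res).mapIso (λ_ ((ext).obj K)))
    (fun {K K'} b => by
      dsimp [pfIso]
      have h1 := pf_naturality_right φ (𝟙_ (ModuleCat.{u} B)) b
      rw [reassoc_of% h1, ← Functor.map_comp, Category.assoc, ← Functor.map_comp,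
        leftUnitor_naturality])

/-- Tensoring with a module preserves quasi-isomorphisms between K-flat complexes. -/
theorem quasiIso_tensorObj_map {P Q : DRing.Cx A} (hP : KFlat (DR.T A) P) (hQ : KFlat (DR.T A) Q)
    (s : P ⟶ Q) [QuasiIso s] (M : ModuleCat.{u} A) :
    QuasiIso ((((DR.T A).obj M).mapHomologicalComplex cc).map s) := by
  haveI h1 : QuasiIso (mapBifunctorMap (𝟙 (sgl M)) s (DR.T A) cc) := DR.quasiIso_map₂ hP hQ s (sgl M)
  have hnat := mapBifunctorFlipIso_hom_naturality (𝟙 (sgl M)) s (DR.T A) cc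
  have h2 : QuasiIso (mapBifunctorMap s (𝟙 (sgl M)) (DR.T A).flip cc) := by
    have h3 : mapBifunctorMap s (𝟙 (sgl M)) (DR.T A).flip cc =
        (mapBifunctorFlipIso (sgl M) P (DR.T A) cc).hom ≫
          mapBifunctorMap (𝟙 (sgl M)) s (DR.T A) cc ≫
            (mapBifunctorFlipIso (sgl M) Q (DR.T A) cc).inv := by
      rw [← reassoc_of% hnat, Iso.hom_inv_id, Category.comp_id]
    rw [h3]
    infer_instance
  exact (quasiIso_mapBifunctorMap_single_iff (DR.T A).flip s M).1 h2

theorem quasiIso_extendScalars {P Q : DRing.Cx A} (hP : KFlat (DR.T A) P)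
    (hQ : KFlat (DR.T A) Q) (s : P ⟶ Q) [QuasiIso s] :
    QuasiIso (((ext).mapHomologicalComplex cc).map s) := by
  haveI h1 := quasiIso_tensorObj_map hP hQ s ((res).obj (𝟙_ (ModuleCat.{u} B)))
  have e : Arrow.mk ((((DR.T A).obj ((res).obj (𝟙_ (ModuleCat.{u} B)))).mapHomologicalComplex cc).map s) ≅
      Arrow.mk ((((ext) ⋙ (res)).mapHomologicalComplex cc).map s) :=
    Arrow.isoMk ((NatIso.mapHomologicalComplex (tensorExtIso φ) cc).app P)
      ((NatIso.mapHomologicalComplex (tensorExtIso φ) cc).app Q)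
      ((NatIso.mapHomologicalComplex (tensorExtIso φ) cc).hom.naturality s).symm
  have h2 : QuasiIso ((((ext) ⋙ (res)).mapHomologicalComplex cc).map s) :=
    (quasiIso_iff_of_arrow_mk_iso _ _ e).1 h1
  have h3 : QuasiIso (((res).mapHomologicalComplex cc).map (((ext).mapHomologicalComplex cc).map s)) := h2
  exact (quasiIso_map_iff_of_preservesHomology _ (res)).1 h3

end Groth.Agent.Lib.Helper2.Stk.BC
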