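import Mathlib

/-!
# Applying a functor to the total complex of a bifunctor (helper2)

Given bifunctors `F : C₁ ⥤ C₂ ⥤ D`, `F' : C₁' ⥤ C₂' ⥤ D'`, additive functors `H₁ : C₁ ⥤ C₁'`,
`H₂ : C₂ ⥤ C₂'`, `G : D ⥤ D'` with `G` commuting with the relevant coproducts, and natural
isomorphisms `F'(H₁ A, H₂ B) ≅ G(F(A, B))`, we get an isomorphism of complexes
`Tot F'(H₁ K₁, H₂ K₂) ≅ G(Tot F(K₁, K₂))`.
-/

set_option autoImplicit false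

namespace Groth.Agent.Lib.Helper2.Stk.MB

open CategoryTheory Limits Category HomologicalComplex

variable {C₁ C₂ D C₁' C₂' D' : Type*} [Category C₁] [Category C₂] [Category D]
  [Category C₁'] [Category C₂'] [Category D']
  [Preadditive C₁] [Preadditive C₂] [Preadditive D] [Preadditive C₁'] [Preadditive C₂']
  [Preadditive D']
  (F : C₁ ⥤ C₂ ⥤ D) [F.PreservesZeroMorphisms] [∀ X₁, (F.obj X₁).PreservesZeroMorphisms]
  (F' : C₁' ⥤ C₂' ⥤ D') [F'.PreservesZeroMorphisms] [∀ X₁, (F'.obj X₁).PreservesZeroMorphisms]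
  (H₁ : C₁ ⥤ C₁') [H₁.Additive] (H₂ : C₂ ⥤ C₂') [H₂.Additive] (G : D ⥤ D') [G.Additive]
  {I₁ I₂ J : Type*} {c₁ : ComplexShape I₁} {c₂ : ComplexShape I₂} (c : ComplexShape J)
  [DecidableEq J] [TotalComplexShape c₁ c₂ c]
  (K₁ : HomologicalComplex C₁ c₁) (K₂ : HomologicalComplex C₂ c₂)
  [HasMapBifunctor K₁ K₂ F c]
  [HasMapBifunctor ((H₁.mapHomologicalComplex c₁).obj K₁) ((H₂.mapHomologicalComplex c₂).obj K₂) F' c]
  (e : ∀ (A : C₁) (B : C₂), (F'.obj (H₁.obj A)).obj (H₂.obj B) ≅ G.obj ((F.obj A).obj B))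
  (e_nat₁ : ∀ {A A' : C₁} (a : A ⟶ A') (B : C₂),
    (F'.map (H₁.map a)).app (H₂.obj B) ≫ (e A' B).hom = (e A B).hom ≫ G.map ((F.map a).app B))
  (e_nat₂ : ∀ (A : C₁) {B B' : C₂} (b : B ⟶ B'),
    (F'.obj (H₁.obj A)).map (H₂.map b) ≫ (e A B').hom = (e A B).hom ≫ G.map ((F.obj A).map b))


/-- The isomorphisms `e`, typed on the terms of the complexes. -/
def eK (i₁ : I₁) (i₂ : I₂) :
    (F'.obj (((H₁.mapHomologicalComplex c₁).obj K₁).X i₁)).obj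
        (((H₂.mapHomologicalComplex c₂).obj K₂).X i₂) ≅
      G.obj ((F.obj (K₁.X i₁)).obj (K₂.X i₂)) :=
  e (K₁.X i₁) (K₂.X i₂)

include e_nat₁ in
lemma eK_nat₁ (i₁ i₁' : I₁) (i₂ : I₂) :
    (F'.map (((H₁.mapHomologicalComplex c₁).obj K₁).d i₁ i₁')).app
        (((H₂.mapHomologicalComplex c₂).obj K₂).X i₂) ≫ (eK F F' H₁ H₂ G K₁ K₂ e i₁' i₂).hom =
      (eK F F' H₁ H₂ G K₁ K₂ e i₁ i₂).hom ≫ G.map ((F.map (K₁.d i₁ i₁')).app (K₂.X i₂)) :=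
  e_nat₁ (K₁.d i₁ i₁') (K₂.X i₂)

include e_nat₂ in
lemma eK_nat₂ (i₁ : I₁) (i₂ i₂' : I₂) :
    (F'.obj (((H₁.mapHomologicalComplex c₁).obj K₁).X i₁)).map
        (((H₂.mapHomologicalComplex c₂).obj K₂).d i₂ i₂') ≫ (eK F F' H₁ H₂ G K₁ K₂ e i₁ i₂').hom =
      (eK F F' H₁ H₂ G K₁ K₂ e i₁ i₂).hom ≫ G.map ((F.obj (K₁.X i₁)).map (K₂.d i₂ i₂')) :=
  e_nat₂ (K₁.X i₁) (K₂.d i₂ i₂')

/-- The comparison map in degree `j`. -/
noncomputable def toX (j : J) :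
    (mapBifunctor ((H₁.mapHomologicalComplex c₁).obj K₁) ((H₂.mapHomologicalComplex c₂).obj K₂) F' c).X j ⟶ G.obj ((mapBifunctor K₁ K₂ F c).X j) :=
  mapBifunctorDesc (fun i₁ i₂ h => (eK F F' H₁ H₂ G K₁ K₂ e i₁ i₂).hom ≫
    G.map (ιMapBifunctor K₁ K₂ F c i₁ i₂ j h))

@[reassoc]
lemma ι_toX (i₁ : I₁) (i₂ : I₂) (j : J) (h : ComplexShape.π c₁ c₂ c (i₁, i₂) = j) :
    ιMapBifunctor ((H₁.mapHomologicalComplex c₁).obj K₁) ((H₂.mapHomologicalComplex c₂).obj K₂) F' c i₁ i₂ j h ≫ toX F F' H₁ H₂ G c K₁ K₂ e j =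
      (eK F F' H₁ H₂ G K₁ K₂ e i₁ i₂).hom ≫ G.map (ιMapBifunctor K₁ K₂ F c i₁ i₂ j h) := by
  unfold toX
  exact ι_mapBifunctorDesc _ _ _ _

@[reassoc]
lemma ιOrZero_toX (i₁ : I₁) (i₂ : I₂) (j : J) :
    ιMapBifunctorOrZero ((H₁.mapHomologicalComplex c₁).obj K₁) ((H₂.mapHomologicalComplex c₂).obj K₂) F' c i₁ i₂ j ≫ toX F F' H₁ H₂ G c K₁ K₂ e j =
      (eK F F' H₁ H₂ G K₁ K₂ e i₁ i₂).hom ≫ G.map (ιMapBifunctorOrZero K₁ K₂ F c i₁ i₂ j) := by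
  by_cases h : ComplexShape.π c₁ c₂ c (i₁, i₂) = j
  · rw [ιMapBifunctorOrZero_eq _ _ _ _ _ _ _ h, ιMapBifunctorOrZero_eq _ _ _ _ _ _ _ h, ι_toX]
  · rw [ιMapBifunctorOrZero_eq_zero _ _ _ _ _ _ _ h, ιMapBifunctorOrZero_eq_zero _ _ _ _ _ _ _ h,
      zero_comp, G.map_zero, comp_zero]

include e_nat₁ in
lemma d₁_toX (i₁ : I₁) (i₂ : I₂) (j : J) :
    mapBifunctor.d₁ ((H₁.mapHomologicalComplex c₁).obj K₁) ((H₂.mapHomologicalComplex c₂).obj K₂) F' c i₁ i₂ j ≫ toX F F' H₁ H₂ G c K₁ K₂ e j =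
      (eK F F' H₁ H₂ G K₁ K₂ e i₁ i₂).hom ≫ G.map (mapBifunctor.d₁ K₁ K₂ F c i₁ i₂ j) := by
  by_cases h : c₁.Rel i₁ (c₁.next i₁)
  · rw [mapBifunctor.d₁_eq' ((H₁.mapHomologicalComplex c₁).obj K₁) ((H₂.mapHomologicalComplex c₂).obj K₂) F' c h, mapBifunctor.d₁_eq' K₁ K₂ F c h]
    rw [Linear.units_smul_comp, assoc, ιOrZero_toX, G.map_units_smul, Linear.comp_units_smul,
      G.map_comp]
    congr 1
    rw [← assoc, ← assoc, eK_nat₁ F F' H₁ H₂ G K₁ K₂ e e_nat₁]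
  · rw [mapBifunctor.d₁_eq_zero ((H₁.mapHomologicalComplex c₁).obj K₁) ((H₂.mapHomologicalComplex c₂).obj K₂) F' c _ _ _ h, mapBifunctor.d₁_eq_zero K₁ K₂ F c _ _ _ h,
      zero_comp, G.map_zero, comp_zero]

include e_nat₂ in
lemma d₂_toX (i₁ : I₁) (i₂ : I₂) (j : J) :
    mapBifunctor.d₂ ((H₁.mapHomologicalComplex c₁).obj K₁) ((H₂.mapHomologicalComplex c₂).obj K₂) F' c i₁ i₂ j ≫ toX F F' H₁ H₂ G c K₁ K₂ e j =
      (eK F F' H₁ H₂ G K₁ K₂ e i₁ i₂).hom ≫ G.map (mapBifunctor.d₂ K₁ K₂ F c i₁ i₂ j) := by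
  by_cases h : c₂.Rel i₂ (c₂.next i₂)
  · rw [mapBifunctor.d₂_eq' ((H₁.mapHomologicalComplex c₁).obj K₁) ((H₂.mapHomologicalComplex c₂).obj K₂) F' c _ h, mapBifunctor.d₂_eq' K₁ K₂ F c _ h]
    rw [Linear.units_smul_comp, assoc, ιOrZero_toX, G.map_units_smul, Linear.comp_units_smul,
      G.map_comp]
    congr 1
    rw [← assoc, ← assoc, eK_nat₂ F F' H₁ H₂ G K₁ K₂ e e_nat₂]
  · rw [mapBifunctor.d₂_eq_zero ((H₁.mapHomologicalComplex c₁).obj K₁) ((H₂.mapHomologicalComplex c₂).obj K₂) F' c _ _ _ h, mapBifunctor.d₂_eq_zero K₁ K₂ F c _ _ _ h,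
      zero_comp, G.map_zero, comp_zero]

include e_nat₁ e_nat₂ in
lemma toX_d (j j' : J) :
    toX F F' H₁ H₂ G c K₁ K₂ e j ≫ G.map ((mapBifunctor K₁ K₂ F c).d j j') =
      (mapBifunctor ((H₁.mapHomologicalComplex c₁).obj K₁) ((H₂.mapHomologicalComplex c₂).obj K₂) F' c).d j j' ≫ toX F F' H₁ H₂ G c K₁ K₂ e j' := by
  apply mapBifunctor.hom_ext
  intro i₁ i₂ h
  have hL : ιMapBifunctor ((H₁.mapHomologicalComplex c₁).obj K₁)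
        ((H₂.mapHomologicalComplex c₂).obj K₂) F' c i₁ i₂ j h ≫
      toX F F' H₁ H₂ G c K₁ K₂ e j ≫ G.map ((mapBifunctor K₁ K₂ F c).d j j') =
      (eK F F' H₁ H₂ G K₁ K₂ e i₁ i₂).hom ≫ G.map (mapBifunctor.d₁ K₁ K₂ F c i₁ i₂ j' +
        mapBifunctor.d₂ K₁ K₂ F c i₁ i₂ j') := by
    rw [← assoc, ι_toX, assoc, ← G.map_comp, mapBifunctor.d_eq, Preadditive.comp_add,
      mapBifunctor.ι_D₁, mapBifunctor.ι_D₂]
  have hR : ιMapBifunctor ((H₁.mapHomologicalComplex c₁).obj K₁)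
        ((H₂.mapHomologicalComplex c₂).obj K₂) F' c i₁ i₂ j h ≫
      (mapBifunctor ((H₁.mapHomologicalComplex c₁).obj K₁)
        ((H₂.mapHomologicalComplex c₂).obj K₂) F' c).d j j' ≫ toX F F' H₁ H₂ G c K₁ K₂ e j' =
      mapBifunctor.d₁ ((H₁.mapHomologicalComplex c₁).obj K₁)
        ((H₂.mapHomologicalComplex c₂).obj K₂) F' c i₁ i₂ j' ≫ toX F F' H₁ H₂ G c K₁ K₂ e j' +
      mapBifunctor.d₂ ((H₁.mapHomologicalComplex c₁).obj K₁)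
        ((H₂.mapHomologicalComplex c₂).obj K₂) F' c i₁ i₂ j' ≫ toX F F' H₁ H₂ G c K₁ K₂ e j' := by
    rw [mapBifunctor.d_eq, Preadditive.add_comp, Preadditive.comp_add,
      mapBifunctor.ι_D₁_assoc, mapBifunctor.ι_D₂_assoc]
  rw [hL, hR, d₁_toX F F' H₁ H₂ G c K₁ K₂ e e_nat₁, d₂_toX F F' H₁ H₂ G c K₁ K₂ e e_nat₂,
    G.map_add, Preadditive.comp_add]

/-- The comparison morphism of complexes. -/
noncomputable def toHom :
    mapBifunctor ((H₁.mapHomologicalComplex c₁).obj K₁) ((H₂.mapHomologicalComplex c₂).obj K₂) F' c ⟶ (G.mapHomologicalComplex c).obj (mapBifunctor K₁ K₂ F c) where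
  f j := toX F F' H₁ H₂ G c K₁ K₂ e j
  comm' j j' _ := toX_d F F' H₁ H₂ G c K₁ K₂ e e_nat₁ e_nat₂ j j'

section Iso

variable [∀ j : J, PreservesColimit (Discrete.functor
  (fun (a : (ComplexShape.π c₁ c₂ c) ⁻¹' {j}) => (F.obj (K₁.X a.1.1)).obj (K₂.X a.1.2))) G]

/-- The image under `G` of the coproduct cofan is a colimit cofan. -/
noncomputable def isColimitG (j : J) :
    IsColimit (Cofan.mk (G.obj ((mapBifunctor K₁ K₂ F c).X j))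
      (fun (a : (ComplexShape.π c₁ c₂ c) ⁻¹' {j}) =>
        G.map (ιMapBifunctor K₁ K₂ F c a.1.1 a.1.2 j a.2))) :=
  isColimitCofanMkObjOfIsColimit G
    (fun (a : (ComplexShape.π c₁ c₂ c) ⁻¹' {j}) => (F.obj (K₁.X a.1.1)).obj (K₂.X a.1.2)) _
    (GradedObject.isColimitCofanMapObj
      ((((F.mapBifunctorHomologicalComplex c₁ c₂).obj K₁).obj K₂).toGradedObject)
      (ComplexShape.π c₁ c₂ c) j)

/-- The inverse of the comparison map in degree `j`. -/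
noncomputable def invX (j : J) :
    G.obj ((mapBifunctor K₁ K₂ F c).X j) ⟶
      (mapBifunctor ((H₁.mapHomologicalComplex c₁).obj K₁)
        ((H₂.mapHomologicalComplex c₂).obj K₂) F' c).X j :=
  Cofan.IsColimit.desc (isColimitG F G c K₁ K₂ j)
    (fun a => (eK F F' H₁ H₂ G K₁ K₂ e a.1.1 a.1.2).inv ≫
      ιMapBifunctor ((H₁.mapHomologicalComplex c₁).obj K₁)
        ((H₂.mapHomologicalComplex c₂).obj K₂) F' c a.1.1 a.1.2 j a.2)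

lemma map_ι_invX (i₁ : I₁) (i₂ : I₂) (j : J) (h : ComplexShape.π c₁ c₂ c (i₁, i₂) = j) :
    G.map (ιMapBifunctor K₁ K₂ F c i₁ i₂ j h) ≫ invX F F' H₁ H₂ G c K₁ K₂ e j =
      (eK F F' H₁ H₂ G K₁ K₂ e i₁ i₂).inv ≫
        ιMapBifunctor ((H₁.mapHomologicalComplex c₁).obj K₁)
          ((H₂.mapHomologicalComplex c₂).obj K₂) F' c i₁ i₂ j h :=
  Cofan.IsColimit.fac (isColimitG F G c K₁ K₂ j) _ ⟨(i₁, i₂), h⟩

lemma toX_invX (j : J) :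
    toX F F' H₁ H₂ G c K₁ K₂ e j ≫ invX F F' H₁ H₂ G c K₁ K₂ e j = 𝟙 _ := by
  apply mapBifunctor.hom_ext
  intro i₁ i₂ h
  rw [ι_toX_assoc, map_ι_invX, Iso.hom_inv_id_assoc, comp_id]

lemma invX_toX (j : J) :
    invX F F' H₁ H₂ G c K₁ K₂ e j ≫ toX F F' H₁ H₂ G c K₁ K₂ e j = 𝟙 _ := by
  apply Cofan.IsColimit.hom_ext (isColimitG F G c K₁ K₂ j)
  rintro ⟨⟨i₁, i₂⟩, h⟩
  show G.map (ιMapBifunctor K₁ K₂ F c i₁ i₂ j h) ≫ _ = G.map (ιMapBifunctor K₁ K₂ F c i₁ i₂ j h) ≫ _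
  rw [← assoc, map_ι_invX, assoc, ι_toX, Iso.inv_hom_id_assoc, comp_id]

include e_nat₁ e_nat₂ in
/-- `Tot F'(H₁ K₁, H₂ K₂) ≅ G (Tot F(K₁, K₂))`. -/
noncomputable def mapIso :
    mapBifunctor ((H₁.mapHomologicalComplex c₁).obj K₁)
        ((H₂.mapHomologicalComplex c₂).obj K₂) F' c ≅
      (G.mapHomologicalComplex c).obj (mapBifunctor K₁ K₂ F c) :=
  HomologicalComplex.Hom.isoOfComponents
    (fun j =>
      { hom := toX F F' H₁ H₂ G c K₁ K₂ e j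
        inv := invX F F' H₁ H₂ G c K₁ K₂ e j
        hom_inv_id := toX_invX F F' H₁ H₂ G c K₁ K₂ e j
        inv_hom_id := invX_toX F F' H₁ H₂ G c K₁ K₂ e j })
    (fun j j' _ => toX_d F F' H₁ H₂ G c K₁ K₂ e e_nat₁ e_nat₂ j j')

end Iso

end Groth.Agent.Lib.Helper2.Stk.MB
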