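import Mathlib
import Groth.Agent.Lib.Helper2.Stk.MapBifunctor
import Groth.Agent.Lib.Helper2.Tot.DRing

/-!
# Base change of K-flat complexes of modules along a ring map
-/

set_option autoImplicit false
universe u
open CategoryTheory CategoryTheory.Limits MonoidalCategory TensorProduct HomologicalComplex
open Groth.Agent.Lib.Helper2.Tot
open ChangeOfRings

namespace Groth.Agent.Lib.Helper2.Stk.BC

variable {A B : Type u} [CommRing A] [CommRing B] (φ : A →+* B)

/-- Restriction of scalars, with universes fixed. -/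
noncomputable abbrev resF : ModuleCat.{u} B ⥤ ModuleCat.{u} A := ModuleCat.restrictScalars φ
/-- Extension of scalars, with universes fixed. -/
noncomputable abbrev extF : ModuleCat.{u} A ⥤ ModuleCat.{u} B := ModuleCat.extendScalars φ

local notation "res" => resF φ
local notation "ext" => extF φ

/-- The projection formula map `L|_A ⊗_A K ⟶ (L ⊗_B (B ⊗_A K))|_A`. -/
noncomputable def pf (L : ModuleCat.{u} B) (K : ModuleCat.{u} A) :
    (res).obj L ⊗ K ⟶ (res).obj (L ⊗ (ext).obj K) :=
  ((res).obj L ◁ (ModuleCat.extendRestrictScalarsAdj φ).unit.app K) ≫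
    Functor.LaxMonoidal.μ (res) L ((ext).obj K)

lemma pf_tmul (L : ModuleCat.{u} B) (K : ModuleCat.{u} A) (l : L) (k : K) :
    pf φ L K (l ⊗ₜ[A] k) =
      (l ⊗ₜ[B] ((ModuleCat.extendRestrictScalarsAdj φ).unit.app K k :
        ((ext).obj K : ModuleCat.{u} B)) : (L ⊗ (ext).obj K : ModuleCat.{u} B)) := by
  exact ModuleCat.restrictScalars_μ_tmul φ L ((ext).obj K) l
    ((ModuleCat.extendRestrictScalarsAdj φ).unit.app K k)

theorem pf_bijective (L : ModuleCat.{u} B) (K : ModuleCat.{u} A) :
    Function.Bijective (pf φ L K) := by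
  letI : Algebra A B := φ.toAlgebra
  letI : Module A L := Module.compHom L φ
  haveI : IsScalarTower A B L := ⟨fun a b l => by
    show (a • b) • l = φ a • (b • l)
    rw [Algebra.smul_def, mul_smul]
    rfl⟩
  let E : (L ⊗[A] K) ≃ₗ[B] L ⊗[B] (B ⊗[A] K) :=
    (AlgebraTensorModule.cancelBaseChange A B B L K).symm
  have key : ∀ z : L ⊗[A] K, pf φ L K z = E z := by
    intro z
    induction z using TensorProduct.induction_on with
    | zero => exact (map_zero (pf φ L K).hom).trans (map_zero E).symm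
    | tmul l k => exact pf_tmul φ L K l k
    | add x y hx hy =>
      exact ((map_add (pf φ L K).hom x y).trans (congrArg₂ (· + ·) hx hy)).trans
        (map_add E x y).symm
  have h2 : (pf φ L K : _ → _) = E := funext key
  rw [h2]
  exact E.bijective

instance isIso_pf (L : ModuleCat.{u} B) (K : ModuleCat.{u} A) : IsIso (pf φ L K) :=
  (ConcreteCategory.isIso_iff_bijective _).2 (pf_bijective φ L K)

/-- The projection formula isomorphism. -/
noncomputable def pfIso (L : ModuleCat.{u} B) (K : ModuleCat.{u} A) :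
    (res).obj L ⊗ K ≅ (res).obj (L ⊗ (ext).obj K) :=
  asIso (pf φ L K)

lemma pf_naturality_left {L L' : ModuleCat.{u} B} (a : L ⟶ L') (K : ModuleCat.{u} A) :
    ((res).map a ▷ K) ≫ pf φ L' K = pf φ L K ≫ (res).map (a ▷ (ext).obj K) := by
  apply ModuleCat.MonoidalCategory.tensor_ext
  intro l k
  show pf φ L' K (((res).map a ▷ K) (l ⊗ₜ[A] k)) = (res).map (a ▷ (ext).obj K) (pf φ L K (l ⊗ₜ[A] k))
  rw [pf_tmul]
  exact pf_tmul φ L' K (a l) k

lemma pf_naturality_right (L : ModuleCat.{u} B) {K K' : ModuleCat.{u} A} (b : K ⟶ K') :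
    ((res).obj L ◁ b) ≫ pf φ L K' = pf φ L K ≫ (res).map (L ◁ (ext).map b) := by
  apply ModuleCat.MonoidalCategory.tensor_ext
  intro l k
  show pf φ L K' (((res).obj L ◁ b) (l ⊗ₜ[A] k)) = (res).map (L ◁ (ext).map b) (pf φ L K (l ⊗ₜ[A] k))
  rw [pf_tmul]
  exact pf_tmul φ L K' l (b k)

local notation "cc" => ComplexShape.up ℤ

/-- The bifunctor `(L, K) ↦ L ⊗_B (B ⊗_A K)`. -/
noncomputable def Fbc : ModuleCat.{u} B ⥤ ModuleCat.{u} A ⥤ ModuleCat.{u} B :=
  DR.T B ⋙ (Functor.whiskeringLeft _ _ _).obj (ext)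

instance additive_ext : (ext).Additive :=
  (ModuleCat.extendRestrictScalarsAdj φ).left_adjoint_additive

instance (L : ModuleCat.{u} B) : ((Fbc φ).obj L).Additive :=
  inferInstanceAs ((ext) ⋙ (DR.T B).obj L).Additive

instance : (Fbc φ).PreservesZeroMorphisms where
  map_zero L L' := by
    ext K : 2
    show (0 : L ⟶ L') ▷ (ext).obj K = 0
    exact MonoidalPreadditive.zero_whiskerRight

instance hasMapBifunctor_Fbc (L : DRing.Cx B) (K : DRing.Cx A) :
    HasMapBifunctor L K (Fbc φ) cc :=
  inferInstanceAs (HasMapBifunctor L (((ext).mapHomologicalComplex cc).obj K) (DR.T B) cc)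

lemma acyclic_of_acyclic_res (M : DRing.Cx B)
    (h : (((res).mapHomologicalComplex cc).obj M).Acyclic) : M.Acyclic := by
  intro i
  have hi : ((M.sc i).map (res)).Exact := h i
  exact (ShortComplex.exact_map_iff_of_faithful _ (res)).1 hi

lemma acyclic_res (M : DRing.Cx B) (h : M.Acyclic) :
    (((res).mapHomologicalComplex cc).obj M).Acyclic := fun i => (h i).map (res)

/-- Base change preserves K-flatness. -/
theorem kflat_extendScalars (K : DRing.Cx A) (hK : KFlat (DR.T A) K) :
    KFlat (DR.T B) (((ext).mapHomologicalComplex cc).obj K) := by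
  intro L hL
  apply acyclic_of_acyclic_res φ
  have h1 : (mapBifunctor (((res).mapHomologicalComplex cc).obj L) K (DR.T A) cc).Acyclic :=
    hK _ (acyclic_res φ L hL)
  let e := MB.mapIso (Fbc φ) (DR.T A) (res) (𝟭 _) (res) cc L K
    (fun L K => pfIso φ L K)
    (fun a K => pf_naturality_left φ a K)
    (fun L _ _ b => pf_naturality_right φ L b)
  intro i
  have h2 := h1 i
  rw [exactAt_iff_isZero_homology] at h2 ⊢
  exact IsZero.of_iso h2 ((homologyFunctor _ cc i).mapIso e.symm)

end Groth.Agent.Lib.Helper2.Stk.BC
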