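import Groth.Agent.Lib.Helper2.Stk.Sky

/-!
# The stalk of the pullback of an `O_Y`-module along a morphism of schemes

`(f^* M)_x ≅ M_{f x} ⊗_{O_{Y, f x}} O_{X, x}`, naturally in `M`, by uniqueness of left adjoints:
the pushforward of the skyscraper at `x` is the skyscraper at `f x`.
-/

set_option autoImplicit false
universe u
open CategoryTheory CategoryTheory.Limits AlgebraicGeometry TopologicalSpace Opposite

namespace Groth.Agent.Lib.Helper2.Stk

variable {X Y : Scheme.{u}} (f : X ⟶ Y) (x : X)

/-- The stalk ring map of `f` at `x`. -/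
noncomputable abbrev φst : Y.presheaf.stalk (f.base x) →+* X.presheaf.stalk x := (f.stalkMap x).hom

/-- The comparison `f_* (sky_x T) ⟶ sky_{f x} (T|_{O_{Y, f x}})` (the identity on sections). -/
noncomputable def pushSkyHom (T : ModuleCat.{u} (X.presheaf.stalk x)) :
    (Scheme.Modules.pushforward f).obj (sky x T) ⟶
      sky (f.base x) ((ModuleCat.restrictScalars (φst f x)).obj T) :=
  ⟨PresheafOfModules.homMk (M₁ := ((Scheme.Modules.pushforward f).obj (sky x T)).val)
      (M₂ := skyPre (f.base x) ((ModuleCat.restrictScalars (φst f x)).obj T))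
    { app := fun V => AddCommGrpCat.ofHom
        { toFun := fun (ψ : SkySec x T (f ⁻¹ᵁ V.unop)) =>
            ((fun h => ψ ⟨h.down⟩) :
              SkySec (f.base x) ((ModuleCat.restrictScalars (φst f x)).obj T) V.unop)
          map_zero' := rfl
          map_add' := fun _ _ => rfl }
      naturality := fun U V g => by ext ψ; rfl }
    (by
      intro V r ψ
      funext h
      show (X.presheaf.germ (f ⁻¹ᵁ V.unop) x h.down (f.app V.unop r)) • (ψ ⟨h.down⟩ : T) =
        (f.stalkMap x (Y.presheaf.germ V.unop (f.base x) h.down r)) • (ψ ⟨h.down⟩ : T)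
      rw [Scheme.Hom.germ_stalkMap_apply])⟩

/-- The inverse comparison. -/
noncomputable def pushSkyInv (T : ModuleCat.{u} (X.presheaf.stalk x)) :
    sky (f.base x) ((ModuleCat.restrictScalars (φst f x)).obj T) ⟶
      (Scheme.Modules.pushforward f).obj (sky x T) :=
  ⟨PresheafOfModules.homMk
      (M₁ := skyPre (f.base x) ((ModuleCat.restrictScalars (φst f x)).obj T))
      (M₂ := ((Scheme.Modules.pushforward f).obj (sky x T)).val)
    { app := fun V => AddCommGrpCat.ofHom
        { toFun := fun (ψ : SkySec (f.base x)
              ((ModuleCat.restrictScalars (φst f x)).obj T) V.unop) =>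
            ((fun h => ψ ⟨h.down⟩) : SkySec x T (f ⁻¹ᵁ V.unop))
          map_zero' := rfl
          map_add' := fun _ _ => rfl }
      naturality := fun U V g => by ext ψ; rfl }
    (by
      intro V r ψ
      funext h
      show (f.stalkMap x (Y.presheaf.germ V.unop (f.base x) h.down r)) • (ψ ⟨h.down⟩ : T) =
        (X.presheaf.germ (f ⁻¹ᵁ V.unop) x h.down (f.app V.unop r)) • (ψ ⟨h.down⟩ : T)
      rw [Scheme.Hom.germ_stalkMap_apply])⟩

/-- `f_* ∘ sky_x ≅ sky_{f x} ∘ restriction of scalars`. -/
noncomputable def pushSkyIso :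
    skyF x ⋙ Scheme.Modules.pushforward f ≅
      ModuleCat.restrictScalars (φst f x) ⋙ skyF (f.base x) :=
  NatIso.ofComponents
    (fun T =>
      { hom := pushSkyHom f x T
        inv := pushSkyInv f x T
        hom_inv_id := by
          apply Scheme.Modules.hom_ext
          intro U
          ext ψ
          rfl
        inv_hom_id := by
          apply Scheme.Modules.hom_ext
          intro U
          ext ψ
          rfl })
    (by
      intro T T' g
      apply Scheme.Modules.hom_ext
      intro U
      ext ψ
      rfl)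

/-- The stalk of the pullback: `(f^* M)_x ≅ M_{f x} ⊗ O_{X,x}`, naturally in `M`. -/
noncomputable def pullStalkIso :
    Scheme.Modules.pullback f ⋙ Φ x ≅
      Φ (f.base x) ⋙ ModuleCat.extendScalars (φst f x) :=
  (((Scheme.Modules.pullbackPushforwardAdjunction f).comp (stalkSkyAdj x)).ofNatIsoRight
    (pushSkyIso f x)).leftAdjointUniq
    ((stalkSkyAdj (f.base x)).comp (ModuleCat.extendRestrictScalarsAdj (φst f x)))

end Groth.Agent.Lib.Helper2.Stk
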