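import Groth.Agent.Lib.Helper2.Stk.KFlat
import Groth.Agent.Lib.Helper2.Stk.Pull
import Groth.Agent.Lib.Helper2.Stk.BaseChange

/-!
# The pullback of a K-flat complex of `O_Y`-modules is K-flat
-/

set_option autoImplicit false
universe u
open CategoryTheory CategoryTheory.Limits AlgebraicGeometry TopologicalSpace Opposite
  HomologicalComplex MonoidalCategory
open Groth.Agent.Lib.Helper2.Tot

namespace Groth.Agent.Lib.Helper2.Stk

variable {X Y : Scheme.{u}} (f : X ⟶ Y)

local notation "cc" => ComplexShape.up ℤ

/-- The pullback functor on complexes. -/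
noncomputable abbrev pullC : CochainComplex Y.Modules ℤ ⥤ CochainComplex X.Modules ℤ :=
  (Scheme.Modules.pullback f).mapHomologicalComplex cc

/-- The stalk complex of the pullback is the base change of the stalk complex. -/
noncomputable def pullStalkCxIso (K : CochainComplex Y.Modules ℤ) (x : X) :
    (ΦC x).obj ((pullC f).obj K) ≅
      ((ModuleCat.extendScalars (φst f x)).mapHomologicalComplex cc).obj
        ((ΦC (f.base x)).obj K) :=
  (NatIso.mapHomologicalComplex (pullStalkIso f x) cc).app K

theorem kflat_pullback (K : CochainComplex Y.Modules ℤ) (hK : KFlat (DCoh.tensorBi (X := Y)) K) :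
    KFlat (DCoh.tensorBi (X := X)) ((pullC f).obj K) := by
  rw [kflat_iff_stalks]
  intro x
  have h1 := (kflat_iff_stalks K).1 hK (f.base x)
  have h2 := BC.kflat_extendScalars (φst f x) _ h1
  exact KFlat.of_iso (F := DR.T (X.presheaf.stalk x)) (pullStalkCxIso f K x).symm h2

end Groth.Agent.Lib.Helper2.Stk
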