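import Groth.Prelude.Def_DDual2
import Groth.Agent.Lib.Helper2.Stk.PullKFlat
import Groth.Agent.Lib.Helper2.Stk.BaseChangeQis
import Groth.Agent.Lib.Helper2.LDer.DCohTor
import Groth.Agent.Lib.Helper2.LDer.Unique

/-!
# The derived pullback `Lf^*` exists and is computed on K-flat complexes (helper2)
-/

set_option autoImplicit false
universe u
open CategoryTheory CategoryTheory.Limits AlgebraicGeometry TopologicalSpace Opposite
  HomologicalComplex MonoidalCategory
open Groth.Agent.Lib.Helper2.Tot Groth.Agent.Lib.Helper2.LDer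

attribute [local instance] HasDerivedCategory.standard

namespace Groth.Agent.Lib.Helper2.Stk

local notation "cc" => ComplexShape.up ℤ

section

variable {X : Scheme.{u}}

/-- The stalk functors jointly reflect isomorphisms. -/
theorem jointlyReflectIsomorphisms_Φ :
    JointlyReflectIsomorphisms (fun x : X => Φ x) where
  isIso {M N} f _ := by
    haveI : Mono f := by
      rw [Preadditive.mono_iff_isZero_kernel]
      apply isZero_of_forall_isZero_stalk
      intro x
      exact IsZero.of_iso (isZero_kernel_of_mono ((Φ x).map f)) (PreservesKernel.iso (Φ x) f)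
    haveI : Epi f := by
      rw [Preadditive.epi_iff_isZero_cokernel]
      apply isZero_of_forall_isZero_stalk
      intro x
      exact IsZero.of_iso (isZero_cokernel_of_epi ((Φ x).map f)) (PreservesCokernel.iso (Φ x) f)
    exact isIso_of_mono_of_epi f

theorem quasiIso_iff_stalks {K L : CochainComplex X.Modules ℤ} (s : K ⟶ L) :
    QuasiIso s ↔ ∀ x : X, QuasiIso ((ΦC x).map s) :=
  jointlyReflectIsomorphisms_Φ.quasiIso_iff s

end

variable {X Y : Scheme.{u}} (f : X ⟶ Y)

/-- The pullback of a quasi-isomorphism between K-flat complexes is a quasi-isomorphism. -/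
theorem quasiIso_pullback {P P' : CochainComplex Y.Modules ℤ} (s : P ⟶ P') [QuasiIso s]
    (hP : KFlat (DCoh.tensorBi (X := Y)) P) (hP' : KFlat (DCoh.tensorBi (X := Y)) P') :
    QuasiIso ((pullC f).map s) := by
  rw [quasiIso_iff_stalks]
  intro x
  have e : Arrow.mk ((ΦC x).map ((pullC f).map s)) ≅
      Arrow.mk (((ModuleCat.extendScalars (φst f x)).mapHomologicalComplex cc).map
        ((ΦC (f.base x)).map s)) :=
    Arrow.isoMk (pullStalkCxIso f P x) (pullStalkCxIso f P' x)
      ((NatIso.mapHomologicalComplex (pullStalkIso f x) cc).hom.naturality s).symm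
  rw [quasiIso_iff_of_arrow_mk_iso _ _ e]
  haveI : QuasiIso ((ΦC (f.base x)).map s) := (quasiIso_iff_stalks s).1 inferInstance _
  exact BC.quasiIso_extendScalars (φst f x) ((kflat_iff_stalks P).1 hP _)
    ((kflat_iff_stalks P').1 hP' _) _

/-- The class of objects of the homotopy category represented by K-flat complexes. -/
def PKf (Z : HomotopyCategory Y.Modules cc) : Prop :=
  ∃ P : CochainComplex Y.Modules ℤ, KFlat (DCoh.tensorBi (X := Y)) P ∧
    Z = (HomotopyCategory.quotient _ _).obj P

theorem adapted_pullKh :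
    Adapted (HomotopyCategory.quasiIso Y.Modules cc) DerivedCategory.Qh (DCoh.pullKh f) PKf := by
  refine Adapted.of_calculus _ _ _ _ ?_ ?_
  · intro Z
    obtain ⟨K, rfl⟩ := HomotopyCategory.quotient_obj_surjective Z
    obtain ⟨P, s, _, hP, _, hs, _⟩ := DC.exists_good_resolution K
    exact ⟨_, (HomotopyCategory.quotient _ _).map s, ⟨P, (DC.isKFlat_iff P).1 hP, rfl⟩,
      (HomotopyCategory.quotient_map_mem_quasiIso_iff s).2
        ((HomologicalComplex.mem_quasiIso_iff s).2 hs)⟩
  · rintro Z Z' s' ⟨P, hP, rfl⟩ ⟨P', hP', rfl⟩ hs'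
    obtain ⟨s, rfl⟩ := (HomotopyCategory.quotient _ _).map_surjective s'
    haveI : QuasiIso s := (HomologicalComplex.mem_quasiIso_iff s).1
      ((HomotopyCategory.quotient_map_mem_quasiIso_iff s).1 hs')
    have hq := quasiIso_pullback f s hP hP'
    change IsIso (DerivedCategory.Qh.map ((HomotopyCategory.quotient _ _).map
      ((pullC f).map s)))
    exact Localization.inverts DerivedCategory.Qh (HomotopyCategory.quasiIso _ _) _
      ((HomotopyCategory.quotient_map_mem_quasiIso_iff _).2
        ((HomologicalComplex.mem_quasiIso_iff _).2 hq))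

/-- The derived pullback exists. -/
theorem hasLpull : DCoh.HasLpull f :=
  (adapted_pullKh f).hasLeftDerivedFunctor

/-- The value of `pullKh` on the class of a complex. -/
noncomputable def pullKhObjIso (P : CochainComplex Y.Modules ℤ) :
    (DCoh.pullKh f).obj ((HomotopyCategory.quotient _ _).obj P) ≅
      DCoh.toD X ((pullC f).obj P) :=
  DerivedCategory.Qh.mapIso
      (((Scheme.Modules.pullback f).mapHomotopyCategoryFactors cc).app P) ≪≫
    (DerivedCategory.quotientCompQhIso X.Modules).app _

theorem isIso_counit_app [DCoh.HasLpull f] (P : CochainComplex Y.Modules ℤ)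
    (hP : KFlat (DCoh.tensorBi (X := Y)) P) :
    IsIso (((DCoh.pullKh f).totalLeftDerivedCounit DerivedCategory.Qh
      (HomotopyCategory.quasiIso Y.Modules cc)).app
        ((HomotopyCategory.quotient _ _).obj P)) :=
  (adapted_pullKh f).isIso_app (DCoh.Lpull f) _ ⟨P, hP, rfl⟩

/-- `Lf^*` is computed termwise on K-flat complexes. -/
noncomputable def LpullIso [DCoh.HasLpull f] (P : CochainComplex Y.Modules ℤ)
    (hP : KFlat (DCoh.tensorBi (X := Y)) P) :
    (DCoh.Lpull f).obj (DCoh.toD Y P) ≅ DCoh.toD X ((pullC f).obj P) :=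
  haveI := isIso_counit_app f P hP
  (DCoh.Lpull f).mapIso ((DerivedCategory.quotientCompQhIso Y.Modules).app P).symm ≪≫
    asIso (((DCoh.pullKh f).totalLeftDerivedCounit DerivedCategory.Qh
      (HomotopyCategory.quasiIso Y.Modules cc)).app
        ((HomotopyCategory.quotient _ _).obj P)) ≪≫
    pullKhObjIso f P

end Groth.Agent.Lib.Helper2.Stk
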