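import Groth.Agent.Lib.Helper2.Stk.Rpush
import Groth.Agent.Lib.Helper2.Stk.LpullAmp
import Groth.Agent.Lib.Helper2.KInj.RightTri
import Groth.Agent.Lib.Helper2.LDer.DCohFlat

/-!
# `Rf_*` and `Lf^*` are triangulated; `Lf^*` is right t-exact (helper2)
-/

set_option autoImplicit false
universe u
open CategoryTheory CategoryTheory.Limits AlgebraicGeometry TopologicalSpace Opposite
  HomologicalComplex MonoidalCategory Pretriangulated
open Groth.Agent.Lib.Helper2.Tot Groth.Agent.Lib.Helper2.LDer

attribute [local instance] HasDerivedCategory.standard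

namespace Groth.Agent.Lib.Helper2.Stk

local notation "cc" => ComplexShape.up ℤ

variable {X Y : Scheme.{u}} (f : X ⟶ Y)

/-- `Rf_*` carries a triangulated structure. -/
theorem exists_isTriangulated_Rpush [DCoh.HasRpush f] :
    ∃ (_ : (DCoh.Rpush f).CommShift ℤ), (DCoh.Rpush f).IsTriangulated := by
  haveI h23 : (HomotopyCategory.subcategoryAcyclic X.Modules).trW.HasTwoOutOfThreeProperty := by
    rw [← HomotopyCategory.quasiIso_eq_trW_subcategoryAcyclic]
    infer_instance
  haveI hRD : (DCoh.Rpush f).IsRightDerivedFunctor (unitR f)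
      (HomotopyCategory.subcategoryAcyclic X.Modules).trW :=
    RightTri.isRightDerivedFunctor_of_eq
      (HomotopyCategory.quasiIso_eq_trW_subcategoryAcyclic X.Modules) DerivedCategory.Qh
      (DCoh.pushKh f) (DCoh.Rpush f) (unitR f)
  have hres : ∀ K : HomotopyCategory X.Modules cc,
      ∃ (Z : HomotopyCategory X.Modules cc) (g : K ⟶ Z),
        (HomotopyCategory.subcategoryAcyclic X.Modules).rightOrthogonal Z ∧
        (HomotopyCategory.subcategoryAcyclic X.Modules).trW g := by
    intro K
    obtain ⟨Z, g, h1, h2⟩ := exists_local_resolution (hKinj X) K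
    refine ⟨Z, g, ?_, ?_⟩
    · rwa [HomotopyCategory.quasiIso_eq_trW_subcategoryAcyclic, ObjectProperty.isLocal_trW] at h1
    · rwa [HomotopyCategory.quasiIso_eq_trW_subcategoryAcyclic] at h2
  exact RightTri.exists_isTriangulated
    (HomotopyCategory.subcategoryAcyclic X.Modules) DerivedCategory.Qh hres (DCoh.pushKh f)
    (DCoh.Rpush f) (unitR f)

/-- `Lf^*` carries a triangulated structure. -/
theorem exists_isTriangulated_Lpull [DCoh.HasLpull f] :
    ∃ (_ : (DCoh.Lpull f).CommShift ℤ), (DCoh.Lpull f).IsTriangulated := by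
  haveI := hasRpush f
  obtain ⟨cs, tri⟩ := exists_isTriangulated_Rpush f
  letI : (DCoh.Lpull f).CommShift ℤ := (LpullRpushAdj f).leftAdjointCommShift ℤ
  haveI : (LpullRpushAdj f).CommShift ℤ := (LpullRpushAdj f).commShift_of_rightAdjoint ℤ
  exact ⟨inferInstance, (LpullRpushAdj f).isTriangulated_leftAdjoint⟩

/-- `Lf^*` is right t-exact (homology form). -/
theorem isZero_homology_Lpull [DCoh.HasLpull f] (C : DCoh.D Y) (m : ℤ)
    (hC : ∀ i, m ≤ i → IsZero ((DerivedCategory.homologyFunctor Y.Modules i).obj C)) :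
    ∀ i, m ≤ i → IsZero ((DerivedCategory.homologyFunctor X.Modules i).obj
      ((DCoh.Lpull f).obj C)) := by
  let C₀ := DerivedCategory.Q.objPreimage C
  let e : DerivedCategory.Q.obj C₀ ≅ C := DerivedCategory.Q.objObjPreimageIso C
  haveI : C₀.IsLE (m - 1) := by
    rw [CochainComplex.isLE_iff]
    intro i hi
    rw [exactAt_iff_isZero_homology]
    exact IsZero.of_iso (hC i (by lia))
      (((DerivedCategory.homologyFunctorFactors Y.Modules i).app C₀).symm ≪≫
        (DerivedCategory.homologyFunctor Y.Modules i).mapIso e)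
  obtain ⟨Q₀, α, hQ₀, hflat, hα⟩ := DC.exists_flat_resolution_of_isLE C₀ (m - 1)
  haveI := hQ₀
  haveI := hα
  have hK := kflat_of_isStrictlyLE Q₀ (m - 1) hflat
  have e' : (DCoh.Lpull f).obj C ≅ DCoh.toD X ((pullC f).obj Q₀) :=
    (DCoh.Lpull f).mapIso (e.symm ≪≫ (asIso (DerivedCategory.Q.map α)).symm) ≪≫ LpullIso f Q₀ hK
  haveI : ((pullC f).obj Q₀).IsStrictlyLE (m - 1) := by
    rw [CochainComplex.isStrictlyLE_iff]
    intro i hi
    exact Functor.map_isZero (Scheme.Modules.pullback f) (Q₀.isZero_of_isStrictlyLE (m - 1) i hi)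
  intro i hi
  refine IsZero.of_iso ?_ ((DerivedCategory.homologyFunctor X.Modules i).mapIso e' ≪≫
    (DerivedCategory.homologyFunctorFactors X.Modules i).app _)
  change IsZero (((pullC f).obj Q₀).homology i)
  rw [← exactAt_iff_isZero_homology]
  exact ((pullC f).obj Q₀).exactAt_of_isLE (m - 1) i (by lia)

end Groth.Agent.Lib.Helper2.Stk

namespace Groth.Agent.Lib.Helper2.RightTri

open DerivedCategory

variable {A : Type*} [Category A] [Abelian A] [HasDerivedCategory A]

/-- For a distinguished triangle in `D(A)`: the first map is an isomorphism on `H^i` for `i > m`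
and an epimorphism on `H^m` iff the cone has no cohomology in degrees `≥ m`. -/
theorem cone_vanish_iff (T : Triangle (DerivedCategory A)) (hT : T ∈ distTriang _) (m : ℤ) :
    ((∀ i, m < i → IsIso ((DerivedCategory.homologyFunctor A i).map T.mor₁)) ∧
      Epi ((DerivedCategory.homologyFunctor A m).map T.mor₁)) ↔
    ∀ i, m ≤ i → IsZero ((DerivedCategory.homologyFunctor A i).obj T.obj₃) := by
  constructor
  · rintro ⟨h1, h2⟩ i hi
    have hepi : Epi ((DerivedCategory.homologyFunctor A i).map T.mor₁) := by
      rcases hi.eq_or_lt with rfl | hlt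
      · exact h2
      · haveI := h1 i hlt
        infer_instance
    have hmono : Mono ((DerivedCategory.homologyFunctor A (i + 1)).map T.mor₁) := by
      haveI := h1 (i + 1) (by lia)
      infer_instance
    have e2 := (HomologySequence.epi_homologyMap_mor₁_iff T hT i).1 hepi
    have e3 := (HomologySequence.mono_homologyMap_mor₁_iff T hT i (i + 1) rfl).1 hmono
    have hex := HomologySequence.exact₃ T hT i (i + 1) rfl
    haveI : Mono (HomologySequence.δ T i (i + 1) rfl) := hex.mono_g e2
    exact IsZero.of_mono_eq_zero _ e3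
  · intro h
    have hepi : ∀ i, m ≤ i → Epi ((DerivedCategory.homologyFunctor A i).map T.mor₁) := fun i hi =>
      (HomologySequence.epi_homologyMap_mor₁_iff T hT i).2 ((h i hi).eq_of_tgt _ _)
    refine ⟨fun i hi => ?_, hepi m le_rfl⟩
    haveI := hepi i hi.le
    haveI : Mono ((DerivedCategory.homologyFunctor A i).map T.mor₁) :=
      (HomologySequence.mono_homologyMap_mor₁_iff T hT (i - 1) i (by lia)).2
        ((h (i - 1) (by lia)).eq_of_src _ _)
    exact isIso_of_mono_of_epi _

/-- A triangulated functor between derived categories which is right t-exact preserves the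
"isomorphism on `H^i` for `i > m`, epimorphism on `H^m`" condition. -/
theorem pcoh_map {B : Type*} [Category B] [Abelian B] [HasDerivedCategory B]
    (L : DerivedCategory A ⥤ DerivedCategory B) [L.CommShift ℤ] [L.IsTriangulated]
    (hL : ∀ (C : DerivedCategory A) (m : ℤ),
      (∀ i, m ≤ i → IsZero ((DerivedCategory.homologyFunctor A i).obj C)) →
      ∀ i, m ≤ i → IsZero ((DerivedCategory.homologyFunctor B i).obj (L.obj C)))
    {K K' : DerivedCategory A} (α : K ⟶ K') (m : ℤ)
    (h1 : ∀ i, m < i → IsIso ((DerivedCategory.homologyFunctor A i).map α))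
    (h2 : Epi ((DerivedCategory.homologyFunctor A m).map α)) :
    (∀ i, m < i → IsIso ((DerivedCategory.homologyFunctor B i).map (L.map α))) ∧
      Epi ((DerivedCategory.homologyFunctor B m).map (L.map α)) := by
  obtain ⟨Z, g, h, hT⟩ := distinguished_cocone_triangle α
  have hZ := (cone_vanish_iff _ hT m).1 ⟨h1, h2⟩
  have hT' := L.map_distinguished _ hT
  exact (cone_vanish_iff _ hT' m).2 (hL Z m hZ)

end Groth.Agent.Lib.Helper2.RightTri
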