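import Groth.Agent.Lib.Helper2.Stk.LpullComp
import Groth.Agent.Lib.Helper3.QCProps

/-!
# Derived pullback along an open immersion is restriction (helper2)
-/

set_option autoImplicit false
universe u
open CategoryTheory CategoryTheory.Limits AlgebraicGeometry TopologicalSpace Opposite
  HomologicalComplex MonoidalCategory
open Groth.Agent.Lib.Helper2.Tot Groth.Agent.Lib.Helper2.LDer

attribute [local instance] HasDerivedCategory.standard

namespace Groth.Agent.Lib.Helper2.Stk

local notation "cc" => ComplexShape.up ℤ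

variable {U Y : Scheme.{u}}

instance preservesFiniteColimits_restrictFunctor (j : U ⟶ Y) [IsOpenImmersion j] :
    PreservesFiniteColimits (Scheme.Modules.restrictFunctor j) := by
  haveI : PreservesColimitsOfSize.{0, 0} (Scheme.Modules.restrictFunctor j) :=
    (Scheme.Modules.restrictAdjunction j).leftAdjoint_preservesColimits
  exact PreservesColimitsOfSize.preservesFiniteColimits _

/-- every object of `D(O_Y)` is represented by a K-flat complex -/
theorem exists_kflat_model (K : DCoh.D Y) :
    ∃ (P : CochainComplex Y.Modules ℤ), KFlat (DCoh.tensorBi (X := Y)) P ∧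
      Nonempty (DerivedCategory.Q.obj P ≅ K) := by
  obtain ⟨P, s, _, hP, _, hs, _⟩ := DC.exists_good_resolution (DerivedCategory.Q.objPreimage K)
  haveI : IsIso (DerivedCategory.Q.map s) := (DerivedCategory.isIso_Q_map_iff_quasiIso _ s).2 hs
  exact ⟨P, (DC.isKFlat_iff P).1 hP,
    ⟨asIso (DerivedCategory.Q.map s) ≪≫ DerivedCategory.Q.objObjPreimageIso K⟩⟩

/-- For an open immersion `j`, `Lj^* K ≅ K|_j` (objectwise). -/
theorem nonempty_Lpull_openImmersion_iso (j : U ⟶ Y) [IsOpenImmersion j] [DCoh.HasLpull j]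
    (K : DCoh.D Y) :
    Nonempty ((DCoh.Lpull j).obj K ≅
      (Scheme.Modules.restrictFunctor j).mapDerivedCategory.obj K) := by
  obtain ⟨P, hP, ⟨e⟩⟩ := exists_kflat_model K
  exact ⟨(DCoh.Lpull j).mapIso e.symm ≪≫ LpullIso j P hP ≪≫
    DerivedCategory.Q.mapIso ((NatIso.mapHomologicalComplex
      (Scheme.Modules.restrictFunctorIsoPullback j) cc).app P).symm ≪≫
    ((Scheme.Modules.restrictFunctor j).mapDerivedCategoryFactors.app P).symm ≪≫
    (Scheme.Modules.restrictFunctor j).mapDerivedCategory.mapIso e⟩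

/-- `Lf^*` only depends on `f` up to equality -/
theorem nonempty_Lpull_congr {X : Scheme.{u}} {f g : X ⟶ Y} (h : f = g) [DCoh.HasLpull f]
    [DCoh.HasLpull g] (K : DCoh.D Y) :
    Nonempty ((DCoh.Lpull f).obj K ≅ (DCoh.Lpull g).obj K) := by
  subst h
  exact ⟨Iso.refl _⟩

end Groth.Agent.Lib.Helper2.Stk
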