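import Groth.Agent.Lib.Helper2.Stk.LpullAmp
import Groth.Agent.Lib.Helper3.QCProps
import Groth.Agent.Lib.Helper3.LocFreeCrit
import Groth.Agent.Lib.Helper17.FinLocFreeSec
import Groth.Agent.Lib.Helper17.PinchGeom

/-!
# Pullback of strictly perfect complexes, restriction to opens (helper2)
-/

set_option autoImplicit false
universe u
open CategoryTheory CategoryTheory.Limits AlgebraicGeometry TopologicalSpace Opposite
  HomologicalComplex MonoidalCategory
open Groth.Agent.Lib.Helper2.Tot Groth.Agent.Lib.Helper2.LDer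

attribute [local instance] HasDerivedCategory.standard

namespace Groth.Agent.Lib.Helper2.Stk

local notation "cc" => ComplexShape.up ℤ

variable {X Y : Scheme.{u}}

/-- restriction of complexes to an open is termwise pullback, up to isomorphism -/
noncomputable def restrictCxIsoPull (V : Y.Opens) :
    DCoh.restrictCx V ≅ pullC V.ι :=
  NatIso.mapHomologicalComplex (Scheme.Modules.restrictFunctorIsoPullback V.ι) cc

/-- restriction of a K-flat complex is K-flat -/
theorem kflat_restrict (V : Y.Opens) (F : CochainComplex Y.Modules ℤ)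
    (hF : KFlat (DCoh.tensorBi (X := Y)) F) :
    KFlat (DCoh.tensorBi (X := (V : Scheme.{u}))) ((DCoh.restrictCx V).obj F) :=
  KFlat.of_iso ((restrictCxIsoPull V).app F).symm (kflat_pullback V.ι F hF)

/-- restriction to an open, on the derived category -/
noncomputable abbrev restrictD (V : Y.Opens) : DCoh.D Y ⥤ DCoh.D (V : Scheme.{u}) :=
  (Scheme.Modules.restrictFunctor V.ι).mapDerivedCategory

/-- `Q(F|_V) ≅ (Q F)|_V` -/
noncomputable def restrictDIso (V : Y.Opens) (F : CochainComplex Y.Modules ℤ) :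
    DerivedCategory.Q.obj ((DCoh.restrictCx V).obj F) ≅ (restrictD V).obj (DerivedCategory.Q.obj F) :=
  ((Scheme.Modules.restrictFunctor V.ι).mapDerivedCategoryFactors.app F).symm

/-- strictly perfect complexes are K-flat -/
theorem kflat_of_isStrictlyPerfect (P : CochainComplex Y.Modules ℤ) (hP : DCoh.IsStrictlyPerfect P) :
    KFlat (DCoh.tensorBi (X := Y)) P := by
  obtain ⟨⟨a, b, hv⟩, hfl⟩ := hP
  haveI := DC.isStrictlyLE_of_vanishesOutside P a b hv
  refine kflat_of_isStrictlyLE P b (fun n => ?_)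
  haveI := Groth.Agent.Lib.Helper3.LocFreeCrit.isQuasicoherent_of_isFinLocFree (hfl n)
  exact Groth.Agent.Lib.Helper17.FinLocFreeSec.isFlat_of_isFinLocFree _ (hfl n)

/-- the pullback of a strictly perfect complex is strictly perfect -/
theorem isStrictlyPerfect_pull (f : X ⟶ Y) (P : CochainComplex Y.Modules ℤ)
    (hP : DCoh.IsStrictlyPerfect P) : DCoh.IsStrictlyPerfect ((pullC f).obj P) := by
  obtain ⟨⟨a, b, hv⟩, hfl⟩ := hP
  refine ⟨⟨a, b, fun i hi => Functor.map_isZero (Scheme.Modules.pullback f) (hv i hi)⟩, fun i => ?_⟩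
  haveI := Groth.Agent.Lib.Helper3.LocFreeCrit.isQuasicoherent_of_isFinLocFree (hfl i)
  exact Groth.Agent.Lib.Helper17.PinchGeom.isFinLocFree_pullback f _ (hfl i)

/-- base change for restriction and pullback, on modules -/
noncomputable def pullRestrictIso (f : X ⟶ Y) (V : Y.Opens) :
    Scheme.Modules.pullback f ⋙ Scheme.Modules.restrictFunctor (f ⁻¹ᵁ V).ι ≅
      Scheme.Modules.restrictFunctor V.ι ⋙ Scheme.Modules.pullback (f ∣_ V) :=
  Functor.isoWhiskerLeft _ (Scheme.Modules.restrictFunctorIsoPullback (f ⁻¹ᵁ V).ι) ≪≫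
    Scheme.Modules.pullbackComp (f ⁻¹ᵁ V).ι f ≪≫
    Scheme.Modules.pullbackCongr (morphismRestrict_ι f V).symm ≪≫
    (Scheme.Modules.pullbackComp (f ∣_ V) V.ι).symm ≪≫
    Functor.isoWhiskerRight (Scheme.Modules.restrictFunctorIsoPullback V.ι).symm _

/-- base change for restriction and pullback, on complexes -/
noncomputable def pullRestrictCxIso (f : X ⟶ Y) (V : Y.Opens) (F : CochainComplex Y.Modules ℤ) :
    (DCoh.restrictCx (f ⁻¹ᵁ V)).obj ((pullC f).obj F) ≅
      (pullC (f ∣_ V)).obj ((DCoh.restrictCx V).obj F) :=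
  (NatIso.mapHomologicalComplex (pullRestrictIso f V) cc).app F

/-- The local step in the proof that `Lf^*` preserves perfect objects. -/
theorem perfect_pull_aux (f : X ⟶ Y) [DCoh.HasLpull f] (V : Y.Opens)
    (F : CochainComplex Y.Modules ℤ) (hF : KFlat (DCoh.tensorBi (X := Y)) F)
    (P : CochainComplex (V : Scheme.{u}).Modules ℤ) (hP : DCoh.IsStrictlyPerfect P)
    (eP : DerivedCategory.Q.obj ((DCoh.restrictCx V).obj F) ≅ DerivedCategory.Q.obj P)
    (G : CochainComplex X.Modules ℤ)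
    (eG : DCoh.toD X G ≅ (DCoh.Lpull f).obj (DCoh.toD Y F)) :
    ∃ E : CochainComplex ((f ⁻¹ᵁ V : X.Opens) : Scheme.{u}).Modules ℤ, DCoh.IsStrictlyPerfect E ∧
      Nonempty (DerivedCategory.Q.obj ((DCoh.restrictCx (f ⁻¹ᵁ V)).obj G) ≅ DerivedCategory.Q.obj E) := by
  haveI := hasLpull (f ∣_ V)
  refine ⟨(pullC (f ∣_ V)).obj P, isStrictlyPerfect_pull _ P hP, ⟨?_⟩⟩
  exact restrictDIso (f ⁻¹ᵁ V) G ≪≫
    (restrictD (f ⁻¹ᵁ V)).mapIso (eG ≪≫ LpullIso f F hF) ≪≫
    (restrictDIso (f ⁻¹ᵁ V) ((pullC f).obj F)).symm ≪≫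
    DerivedCategory.Q.mapIso (pullRestrictCxIso f V F) ≪≫
    (LpullIso (f ∣_ V) _ (kflat_restrict V F hF)).symm ≪≫
    (DCoh.Lpull (f ∣_ V)).mapIso eP ≪≫
    LpullIso (f ∣_ V) P (kflat_of_isStrictlyPerfect P hP)

end Groth.Agent.Lib.Helper2.Stk
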