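import Groth.Agent.Lib.Helper2.Stk.Lpull

/-!
# Derived pullbacks compose (helper2)
-/

set_option autoImplicit false
universe u
open CategoryTheory CategoryTheory.Limits AlgebraicGeometry TopologicalSpace Opposite
  HomologicalComplex MonoidalCategory
open Groth.Agent.Lib.Helper2.Tot Groth.Agent.Lib.Helper2.LDer

attribute [local instance] HasDerivedCategory.standard

namespace Groth.Agent.Lib.Helper2.Stk

local notation "cc" => ComplexShape.up ℤ

variable {X Y Z : Scheme.{u}} (f : X ⟶ Y) (g : Y ⟶ Z)

/-- The pullback functor on homotopy categories. -/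
noncomputable abbrev pullK : HomotopyCategory Y.Modules cc ⥤ HomotopyCategory X.Modules cc :=
  (Scheme.Modules.pullback f).mapHomotopyCategory cc

/-- `f^* g^* ≅ (g f)^*` on complexes. -/
noncomputable def pullCComp : pullC g ⋙ pullC f ≅ pullC (f ≫ g) :=
  NatIso.ofComponents
    (fun P => (NatIso.mapHomologicalComplex (Scheme.Modules.pullbackComp f g) cc).app P)
    (fun {P P'} s => (NatIso.mapHomologicalComplex (Scheme.Modules.pullbackComp f g) cc).hom.naturality s)

/-- `f^* g^* ≅ (g f)^*` on homotopy categories. -/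
noncomputable def pullKComp : pullK g ⋙ pullK f ≅ pullK (f ≫ g) :=
  Quotient.natIsoLift _ (NatIso.ofComponents
    (fun P => (HomotopyCategory.quotient _ _).mapIso ((pullCComp f g).app P))
    (fun {P P'} s => by
      change (HomotopyCategory.quotient _ _).map ((pullC f).map ((pullC g).map s)) ≫
        (HomotopyCategory.quotient _ _).map ((pullCComp f g).hom.app P') =
        (HomotopyCategory.quotient _ _).map ((pullCComp f g).hom.app P) ≫
          (HomotopyCategory.quotient _ _).map ((pullC (f ≫ g)).map s)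
      rw [← Functor.map_comp, ← Functor.map_comp]
      congr 1
      exact (pullCComp f g).hom.naturality s))

variable [DCoh.HasLpull f] [DCoh.HasLpull g] [DCoh.HasLpull (f ≫ g)]

/-- The counit of `Lf^*`. -/
noncomputable abbrev counitL (f : X ⟶ Y) [DCoh.HasLpull f] :
    DerivedCategory.Qh ⋙ DCoh.Lpull f ⟶ DCoh.pullKh f :=
  (DCoh.pullKh f).totalLeftDerivedCounit DerivedCategory.Qh
    (HomotopyCategory.quasiIso Y.Modules cc)

/-- The comparison transformation exhibiting `Lf^* Lg^*` as a left derived functor of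
`(g f)^*`. -/
noncomputable def compβ :
    DerivedCategory.Qh ⋙ (DCoh.Lpull g ⋙ DCoh.Lpull f) ⟶ DCoh.pullKh (f ≫ g) :=
  (Functor.associator _ _ _).inv ≫ Functor.whiskerRight (counitL g) (DCoh.Lpull f) ≫
    (Functor.associator _ _ _).hom ≫ Functor.whiskerLeft (pullK g) (counitL f) ≫
    (Functor.associator _ _ _).inv ≫ Functor.whiskerRight (pullKComp f g).hom DerivedCategory.Qh

lemma compβ_app (K : HomotopyCategory Z.Modules cc) :
    (compβ f g).app K = (DCoh.Lpull f).map ((counitL g).app K) ≫
      (counitL f).app ((pullK g).obj K) ≫ DerivedCategory.Qh.map ((pullKComp f g).hom.app K) := by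
  simp [compβ]

theorem isIso_compβ_app (K : HomotopyCategory Z.Modules cc) (hK : PKf K) :
    IsIso ((compβ f g).app K) := by
  obtain ⟨P, hP, rfl⟩ := hK
  rw [compβ_app]
  haveI h1 : IsIso ((counitL g).app ((HomotopyCategory.quotient _ _).obj P)) :=
    isIso_counit_app g P hP
  haveI h2 : IsIso ((counitL f).app ((pullK g).obj ((HomotopyCategory.quotient _ _).obj P))) :=
    isIso_counit_app f ((pullC g).obj P) (kflat_pullback g P hP)
  infer_instance

/-- `Lf^* ∘ Lg^* ≅ L(g ∘ f)^*`. -/
noncomputable def LpullComp : DCoh.Lpull g ⋙ DCoh.Lpull f ≅ DCoh.Lpull (f ≫ g) :=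
  (adapted_pullKh (f ≫ g)).isoTotalLeftDerived (DCoh.Lpull g ⋙ DCoh.Lpull f) (compβ f g)
    (fun K hK => isIso_compβ_app f g K hK)

end Groth.Agent.Lib.Helper2.Stk
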