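import Groth.Agent.Lib.Helper2.Stk.Tilde
import Groth.Agent.Lib.Helper2.Stk.LpullComp
import Groth.Agent.Lib.Helper2.Stk.Rpush
import Groth.Agent.Lib.Helper2.Stk.BaseChangeQis
import Groth.Agent.Lib.Helper2.Tot.DRingRes
import Groth.Agent.Lib.Helper2.LDer.Unique
import Groth.Agent.Lib.Helper12.TildePullback

/-!
# `(M ⊗^L_A B)~ ≅ Lf^*(M~)` (helper2)
-/

set_option autoImplicit false
universe u
open CategoryTheory CategoryTheory.Limits AlgebraicGeometry TopologicalSpace Opposite
  HomologicalComplex MonoidalCategory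
open Groth.Agent.Lib.Helper2.Tot Groth.Agent.Lib.Helper2.LDer

attribute [local instance] HasDerivedCategory.standard

namespace Groth.Agent.Lib.Helper2.Stk

local notation "cc" => ComplexShape.up ℤ

section General

variable {A₁ A₂ A₃ A₂' : Type*} [Category A₁] [Category A₂] [Category A₃] [Category A₂']
  [Preadditive A₁] [Preadditive A₂] [Preadditive A₃] [Preadditive A₂']
  (F₁ : A₁ ⥤ A₂) (F₂ : A₂ ⥤ A₃) (G₁ : A₁ ⥤ A₂') (G₂ : A₂' ⥤ A₃)
  [F₁.Additive] [F₂.Additive] [G₁.Additive] [G₂.Additive]

/-- A square of additive functors commuting up to isomorphism induces one on homotopy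
categories. -/
noncomputable def mapHomotopyCategorySquare (e : F₁ ⋙ F₂ ≅ G₁ ⋙ G₂) :
    F₁.mapHomotopyCategory cc ⋙ F₂.mapHomotopyCategory cc ≅
      G₁.mapHomotopyCategory cc ⋙ G₂.mapHomotopyCategory cc :=
  Quotient.natIsoLift _ (NatIso.ofComponents
    (fun P => (HomotopyCategory.quotient _ _).mapIso
      ((NatIso.mapHomologicalComplex e cc).app P))
    (fun {P P'} s => by
      change (HomotopyCategory.quotient _ _).map
          ((F₂.mapHomologicalComplex cc).map ((F₁.mapHomologicalComplex cc).map s)) ≫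
        (HomotopyCategory.quotient _ _).map ((NatIso.mapHomologicalComplex e cc).hom.app P') =
        (HomotopyCategory.quotient _ _).map ((NatIso.mapHomologicalComplex e cc).hom.app P) ≫
          (HomotopyCategory.quotient _ _).map
            ((G₂.mapHomologicalComplex cc).map ((G₁.mapHomologicalComplex cc).map s))
      rw [← Functor.map_comp, ← Functor.map_comp]
      congr 1
      exact (NatIso.mapHomologicalComplex e cc).hom.naturality s))

end General

variable {A B : Type u} [CommRing A] [CommRing B] (φ : A →+* B)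

/-- The class of objects of `K(A)` represented by K-flat complexes. -/
def PKfR (Z : HomotopyCategory (ModuleCat.{u} A) cc) : Prop :=
  ∃ P : CochainComplex (ModuleCat.{u} A) ℤ, KFlat (DR.T A) P ∧
    Z = (HomotopyCategory.quotient _ _).obj P

theorem adapted_baseChangeKh :
    Adapted (HomotopyCategory.quasiIso (ModuleCat.{u} A) cc) DerivedCategory.Qh
      (DRing.baseChangeKh φ) PKfR := by
  refine Adapted.of_calculus _ _ _ _ ?_ ?_
  · intro Z
    obtain ⟨K, rfl⟩ := HomotopyCategory.quotient_obj_surjective Z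
    obtain ⟨P, s, hP, _, hs, _⟩ := DR.exists_kflat_resolution K
    exact ⟨_, (HomotopyCategory.quotient _ _).map s, ⟨P, hP, rfl⟩,
      (HomotopyCategory.quotient_map_mem_quasiIso_iff s).2
        ((HomologicalComplex.mem_quasiIso_iff s).2 hs)⟩
  · rintro Z Z' s' ⟨P, hP, rfl⟩ ⟨P', hP', rfl⟩ hs'
    obtain ⟨s, rfl⟩ := (HomotopyCategory.quotient _ _).map_surjective s'
    haveI : QuasiIso s := (HomologicalComplex.mem_quasiIso_iff s).1
      ((HomotopyCategory.quotient_map_mem_quasiIso_iff s).1 hs')
    have hq := BC.quasiIso_extendScalars φ hP hP' s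
    change IsIso (DerivedCategory.Qh.map ((HomotopyCategory.quotient _ _).map
      (((ModuleCat.extendScalars.{u, u, u} φ).mapHomologicalComplex cc).map s)))
    exact Localization.inverts DerivedCategory.Qh (HomotopyCategory.quasiIso _ _) _
      ((HomotopyCategory.quotient_map_mem_quasiIso_iff _).2
        ((HomologicalComplex.mem_quasiIso_iff _).2 hq))

theorem additive_tilde (R : CommRingCat.{u}) : (tilde.functor R).Additive := inferInstance

theorem preservesFiniteColimits_tilde (R : CommRingCat.{u}) :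
    PreservesFiniteColimits (tilde.functor R) := inferInstance

instance additive_tilde_of (A : Type u) [CommRing A] :
    (tilde.functor (CommRingCat.of A)).Additive := additive_tilde _

instance preservesFiniteColimits_tilde_of (A : Type u) [CommRing A] :
    PreservesFiniteColimits (tilde.functor (CommRingCat.of A)) := preservesFiniteColimits_tilde _

/-- `M ↦ M~` on homotopy categories. -/
noncomputable abbrev tildeK (R : CommRingCat.{u}) :
    HomotopyCategory (ModuleCat.{u} R) cc ⥤ HomotopyCategory (Spec R).Modules cc :=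
  (tilde.functor R).mapHomotopyCategory cc

/-- extension of scalars on homotopy categories -/
noncomputable abbrev extK :
    HomotopyCategory (ModuleCat.{u} A) cc ⥤ HomotopyCategory (ModuleCat.{u} B) cc :=
  (ModuleCat.extendScalars.{u, u, u} φ).mapHomotopyCategory cc

/-- The tilde/pullback square on homotopy categories. -/
noncomputable def tildePullK :
    tildeK (CommRingCat.of A) ⋙ pullK (Spec.map (CommRingCat.ofHom φ)) ≅
      extK φ ⋙ tildeK (CommRingCat.of B) :=
  mapHomotopyCategorySquare _ _ _ _
    (Groth.Agent.Lib.Helper12.TildePullback.tildePullbackIso (CommRingCat.ofHom φ))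

section Main

variable [PreservesFiniteLimits (tilde.functor (CommRingCat.of A))]
  [PreservesFiniteLimits (tilde.functor (CommRingCat.of B))]
  [DRing.HasLBaseChange φ] [DCoh.HasLpull (Spec.map (CommRingCat.ofHom φ))]

/-- The functor of which both sides are left derived functors. -/
noncomputable abbrev Fbc : HomotopyCategory (ModuleCat.{u} A) cc ⥤
    DCoh.D (Spec (CommRingCat.of B)) :=
  DRing.baseChangeKh φ ⋙ DCoh.tildeD (CommRingCat.of B)

/-- the counit for `(- ⊗^L B)~` -/
noncomputable abbrev β₁ :
    DerivedCategory.Qh ⋙ (DRing.LBaseChange φ ⋙ DCoh.tildeD (CommRingCat.of B)) ⟶ Fbc φ :=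
  (Functor.associator _ _ _).inv ≫
    Functor.whiskerRight ((DRing.baseChangeKh φ).totalLeftDerivedCounit DerivedCategory.Qh
      (HomotopyCategory.quasiIso (ModuleCat.{u} A) cc)) (DCoh.tildeD (CommRingCat.of B))

instance : (DRing.LBaseChange φ ⋙ DCoh.tildeD (CommRingCat.of B)).IsLeftDerivedFunctor (β₁ φ)
    (HomotopyCategory.quasiIso (ModuleCat.{u} A) cc) :=
  (adapted_baseChangeKh φ).isLeftDerivedFunctor_comp (DRing.LBaseChange φ) _
    (DCoh.tildeD (CommRingCat.of B))

/-- the counit for `Lf^*(-~)` -/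
noncomputable def β₂ :
    DerivedCategory.Qh ⋙ (DCoh.tildeD (CommRingCat.of A) ⋙
      DCoh.Lpull (Spec.map (CommRingCat.ofHom φ))) ⟶ Fbc φ :=
  (Functor.associator _ _ _).inv ≫
    Functor.whiskerRight (tilde.functor (CommRingCat.of A)).mapDerivedCategoryFactorsh.hom
      (DCoh.Lpull (Spec.map (CommRingCat.ofHom φ))) ≫
    (Functor.associator _ _ _).hom ≫
    Functor.whiskerLeft (tildeK (CommRingCat.of A)) (counitL (Spec.map (CommRingCat.ofHom φ))) ≫
    (Functor.associator _ _ _).inv ≫
    Functor.whiskerRight (tildePullK φ).hom DerivedCategory.Qh ≫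
    (Functor.associator _ _ _).hom ≫
    Functor.whiskerLeft (extK φ)
      (tilde.functor (CommRingCat.of B)).mapDerivedCategoryFactorsh.inv ≫
    (Functor.associator _ _ _).inv

lemma β₂_app (K : HomotopyCategory (ModuleCat.{u} A) cc) :
    (β₂ φ).app K =
      (DCoh.Lpull (Spec.map (CommRingCat.ofHom φ))).map
        ((tilde.functor (CommRingCat.of A)).mapDerivedCategoryFactorsh.hom.app K) ≫
      (counitL (Spec.map (CommRingCat.ofHom φ))).app ((tildeK (CommRingCat.of A)).obj K) ≫
      DerivedCategory.Qh.map ((tildePullK φ).hom.app K) ≫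
      (tilde.functor (CommRingCat.of B)).mapDerivedCategoryFactorsh.inv.app ((extK φ).obj K) := by
  simp [β₂]

theorem isIso_β₂_app (K : HomotopyCategory (ModuleCat.{u} A) cc) (hK : PKfR K) :
    IsIso ((β₂ φ).app K) := by
  obtain ⟨P, hP, rfl⟩ := hK
  rw [β₂_app]
  haveI h1 : IsIso ((counitL (Spec.map (CommRingCat.ofHom φ))).app
      ((tildeK (CommRingCat.of A)).obj ((HomotopyCategory.quotient _ _).obj P))) :=
    isIso_counit_app (Spec.map (CommRingCat.ofHom φ))
      (((tilde.functor (CommRingCat.of A)).mapHomologicalComplex cc).obj P)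
      (kflat_tilde (CommRingCat.of A) P hP)
  infer_instance

/-- **`(M ⊗^L_A B)~ ≅ Lf^*(M~)`**, naturally in `M ∈ D(A)`. -/
noncomputable def tildeLBaseChangeIso :
    DRing.LBaseChange φ ⋙ DCoh.tildeD (CommRingCat.of B) ≅
      DCoh.tildeD (CommRingCat.of A) ⋙ DCoh.Lpull (Spec.map (CommRingCat.ofHom φ)) :=
  haveI := ((adapted_baseChangeKh φ).comp_right
    (DCoh.tildeD (CommRingCat.of B))).isLeftDerivedFunctor_of_isIso
      (DCoh.tildeD (CommRingCat.of A) ⋙ DCoh.Lpull (Spec.map (CommRingCat.ofHom φ))) (β₂ φ)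
      (fun K hK => isIso_β₂_app φ K hK)
  Functor.leftDerivedNatIso _ _ (β₁ φ) (β₂ φ) (HomotopyCategory.quasiIso (ModuleCat.{u} A) cc)
    (Iso.refl _)

end Main

end Groth.Agent.Lib.Helper2.Stk
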