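import Groth.Agent.Lib.Helper2.Stk.PullKFlat

/-!
# Stalks of `M~` on `Spec R`, and K-flatness of `K~` (helper2)
-/

set_option autoImplicit false
universe u
open CategoryTheory CategoryTheory.Limits AlgebraicGeometry TopologicalSpace Opposite
  HomologicalComplex MonoidalCategory
open Groth.Agent.Lib.Helper2.Tot

namespace Groth.Agent.Lib.Helper2.Stk

variable (R : CommRingCat.{u}) (x : (Spec R : Scheme.{u}))

local notation "cc" => ComplexShape.up ℤ

/-- The ring map `R ⟶ O_{Spec R, x}`. -/
noncomputable def ρst : R →+* (Spec R).presheaf.stalk x :=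
  ((Scheme.ΓSpecIso R).inv ≫ (Spec R).presheaf.germ ⊤ x trivial).hom

/-- Global sections of the skyscraper at `x` with value `T` are `T`. -/
noncomputable def skyΓEquiv (T : ModuleCat.{u} ((Spec R).presheaf.stalk x)) :
    ((skyF x ⋙ moduleSpecΓFunctor).obj T) ≃ₗ[R]
      ((ModuleCat.restrictScalars.{u} (ρst R x)).obj T) where
  toFun := fun ψ => ((show SkySec x T ⊤ from ψ) ⟨trivial⟩ : T)
  map_add' := fun _ _ => rfl
  map_smul' := fun _ _ => rfl
  invFun := fun t => (show SkySec x T ⊤ from fun _ => t)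
  left_inv := fun _ => rfl
  right_inv := fun _ => rfl

/-- `Γ ∘ sky_x ≅ restriction of scalars`. -/
noncomputable def skyΓIso :
    skyF x ⋙ moduleSpecΓFunctor ≅ ModuleCat.restrictScalars.{u} (ρst R x) :=
  NatIso.ofComponents (fun T => (skyΓEquiv R x T).toModuleIso) (by
    intro T T' g
    ext ψ
    rfl)

/-- The stalk of `M~` at `x` is `M ⊗_R O_{Spec R, x}`, naturally in `M`. -/
noncomputable def tildeStalkIso :
    tilde.functor R ⋙ Φ x ≅ ModuleCat.extendScalars.{u, u, u} (ρst R x) :=
  (((tilde.adjunction (R := R)).comp (stalkSkyAdj x)).ofNatIsoRight (skyΓIso R x)).leftAdjointUniq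
    (ModuleCat.extendRestrictScalarsAdj (ρst R x))

/-- `K~` is K-flat when `K` is. -/
theorem kflat_tilde (K : CochainComplex (ModuleCat.{u} R) ℤ) (hK : KFlat (DR.T R) K) :
    KFlat (DCoh.tensorBi (X := Spec R))
      (((tilde.functor R).mapHomologicalComplex cc).obj K) := by
  rw [kflat_iff_stalks]
  intro x
  have h2 := BC.kflat_extendScalars (ρst R x) K hK
  exact KFlat.of_iso (F := DR.T ((Spec R).presheaf.stalk x))
    ((NatIso.mapHomologicalComplex (tildeStalkIso R x) cc).app K).symm h2

end Groth.Agent.Lib.Helper2.Stk
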