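import Groth.Agent.Lib.Helper2.Stk.Rpush

/-!
# Derived pushforwards compose (helper2)
-/

set_option autoImplicit false
universe u
open CategoryTheory CategoryTheory.Limits AlgebraicGeometry

attribute [local instance] HasDerivedCategory.standard

namespace Groth.Agent.Lib.Helper2.Stk

variable {X Y Z : Scheme.{u}} (f : X ⟶ Y) (g : Y ⟶ Z)
  [DCoh.HasRpush f] [DCoh.HasRpush g] [DCoh.HasRpush (f ≫ g)]

/-- `Rg_* ∘ Rf_* ≅ R(g ∘ f)_*`. -/
noncomputable def RpushComp : DCoh.Rpush f ⋙ DCoh.Rpush g ≅ DCoh.Rpush (f ≫ g) :=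
  haveI := hasLpull f
  haveI := hasLpull g
  haveI := hasLpull (f ≫ g)
  ((LpullRpushAdj g).comp (LpullRpushAdj f)).rightAdjointUniq
    ((LpullRpushAdj (f ≫ g)).ofNatIsoLeft (LpullComp f g).symm)

end Groth.Agent.Lib.Helper2.Stk
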