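import Groth.Agent.Lib.Helper2.Stk.Sky
import Groth.Agent.Lib.Helper2.Stk.MapBifunctor
import Groth.Agent.Lib.Helper2.Tot.DCoh
import Groth.Agent.Lib.Helper2.Tot.DRing

/-!
# K-flatness of complexes of `O_X`-modules is stalkwise
-/

set_option autoImplicit false
universe u
open CategoryTheory CategoryTheory.Limits AlgebraicGeometry TopologicalSpace Opposite
  HomologicalComplex MonoidalCategory
open Groth.Agent.Lib.Helper2.Tot

namespace Groth.Agent.Lib.Helper2.Stk

variable {X : Scheme.{u}}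

local notation "cc" => ComplexShape.up ℤ

/-- The stalk functor on complexes. -/
noncomputable abbrev ΦC (x : X) :
    CochainComplex X.Modules ℤ ⥤ CochainComplex (ModuleCat.{u} (X.presheaf.stalk x)) ℤ :=
  (Φ x).mapHomologicalComplex cc

lemma acyclic_of_iso {A : Type*} [Category A] [Abelian A] {K L : CochainComplex A ℤ} (e : K ≅ L)
    (h : K.Acyclic) : L.Acyclic := by
  intro i
  rw [exactAt_iff_isZero_homology]
  exact IsZero.of_iso ((exactAt_iff_isZero_homology K i).1 (h i))
    ((homologyFunctor A cc i).mapIso e.symm)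

lemma acyclic_iff_stalks' (K : CochainComplex X.Modules ℤ) :
    K.Acyclic ↔ ∀ x : X, ((ΦC x).obj K).Acyclic :=
  ⟨fun h x i => (exactAt_iff_stalks K i).1 (h i) x,
    fun h i => (exactAt_iff_stalks K i).2 (fun x => h x i)⟩

/-- `Φ_x (K ⊗ L) ≅ Φ_x K ⊗ Φ_x L` for complexes. -/
noncomputable def tensorCxStalkIso (K L : CochainComplex X.Modules ℤ) (x : X) :
    mapBifunctor ((ΦC x).obj K) ((ΦC x).obj L) (DR.T (X.presheaf.stalk x)) cc ≅
      (ΦC x).obj (mapBifunctor K L (DCoh.tensorBi (X := X)) cc) :=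
  MB.mapIso (DCoh.tensorBi (X := X)) (DR.T (X.presheaf.stalk x)) (Φ x) (Φ x) (Φ x) cc K L
    (fun A B => tensorIso A B x)
    (fun a B => (tensorIso_naturality_left a B x).symm)
    (fun A _ _ b => (tensorIso_naturality_right A b x).symm)

/-- The skyscraper complex of an acyclic complex is acyclic. -/
lemma exact_map_sky_stalk (x y : X) (S : ShortComplex (ModuleCat.{u} (X.presheaf.stalk x)))
    (hS : S.Exact) : ((S.map (skyF x)).map (Φ y)).Exact := by
  rw [ShortComplex.moduleCat_exact_iff] at hS ⊢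
  intro a ha
  obtain ⟨U, hy, φ, rfl⟩ := TopCat.Presheaf.exists_germ_eq (sky x S.X₂).presheaf a
  have ha' : (Φ y).map (skyMap x S.g) ((sky x S.X₂).presheaf.germ U y hy φ) = 0 := ha
  rw [DerSch.stalkFunctor_map_germ] at ha'
  have h1 : (sky x S.X₃).presheaf.germ U y hy ((skyMap x S.g).app U φ) =
      (sky x S.X₃).presheaf.germ U y hy 0 := by
    rw [ha', map_zero]
    rfl
  obtain ⟨V, hyV, iU, iV, he⟩ := TopCat.Presheaf.germ_eq (sky x S.X₃).presheaf y hy hy _ _ h1
  rw [map_zero] at he
  have h2 : ∀ h : x ∈ V, S.g ((φ : SkySec x S.X₂ U) ⟨iU.le h⟩) = 0 := by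
    intro h
    exact congrFun he ⟨h⟩
  choose t ht using fun h : x ∈ V => hS _ (h2 h)
  refine ⟨(sky x S.X₁).presheaf.germ V y hyV ((fun h => t h.down) : SkySec x S.X₁ V), ?_⟩
  show (Φ y).map (skyMap x S.f) _ = _
  rw [DerSch.stalkFunctor_map_germ]
  rw [← TopCat.Presheaf.germ_res_apply (sky x S.X₂).presheaf iU y hyV φ]
  congr 1
  funext h
  exact ht h.down

lemma acyclic_sky (x : X) (M : CochainComplex (ModuleCat.{u} (X.presheaf.stalk x)) ℤ)
    (hM : M.Acyclic) : (((skyF x).mapHomologicalComplex cc).obj M).Acyclic := by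
  rw [acyclic_iff_stalks']
  intro y i
  exact exact_map_sky_stalk x y (M.sc i) (hM i)

/-- `Φ_x (sky_x M) ≅ M` for complexes. -/
noncomputable def skyStalkCxIso (x : X) (M : CochainComplex (ModuleCat.{u} (X.presheaf.stalk x)) ℤ) :
    (ΦC x).obj (((skyF x).mapHomologicalComplex cc).obj M) ≅ M :=
  HomologicalComplex.Hom.isoOfComponents (fun n => (skyStalkIso x).app (M.X n))
    (fun i j _ => ((skyStalkIso x).hom.naturality (M.d i j)).symm)

/-- K-flatness is stalkwise. -/
theorem kflat_iff_stalks (F : CochainComplex X.Modules ℤ) :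
    KFlat (DCoh.tensorBi (X := X)) F ↔
      ∀ x : X, KFlat (DR.T (X.presheaf.stalk x)) ((ΦC x).obj F) := by
  constructor
  · intro hF x M hM
    have h1 := hF _ (acyclic_sky x M hM)
    have h2 := (acyclic_iff_stalks' _).1 h1 x
    have h3 := acyclic_of_iso (tensorCxStalkIso _ F x).symm h2
    refine acyclic_of_iso ?_ h3
    exact (((DR.T (X.presheaf.stalk x)).map₂CochainComplex).mapIso (skyStalkCxIso x M)).app _
  · intro hF L hL
    rw [acyclic_iff_stalks']
    intro x
    exact acyclic_of_iso (tensorCxStalkIso L F x)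
      (hF x _ ((acyclic_iff_stalks' L).1 hL x))

end Groth.Agent.Lib.Helper2.Stk
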