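import Groth.Agent.Lib.Helper2.Stk.DerivedTri
import Groth.Agent.Lib.Helper2.Stk.PerfPull

/-!
# `Lf^*` preserves pseudo-coherence (helper2)
-/

set_option autoImplicit false
universe u
open CategoryTheory CategoryTheory.Limits AlgebraicGeometry TopologicalSpace Opposite
  MonoidalCategory Pretriangulated
open Groth.Agent.Lib.Helper2.Tot Groth.Agent.Lib.Helper2.LDer

attribute [local instance] HasDerivedCategory.standard

namespace Groth.Agent.Lib.Helper2.Stk

local notation "cc" => ComplexShape.up ℤ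

variable {X Y : Scheme.{u}}

/-- `Q(G|_U) ≅ L f_U^* (Q(F|_V))` when `Q G ≅ Lf^* (Q F)` with `F` K-flat. -/
noncomputable def pullRestrictDIso (f : X ⟶ Y) [DCoh.HasLpull f] (V : Y.Opens)
    [DCoh.HasLpull (f ∣_ V)]
    (F : CochainComplex Y.Modules ℤ) (hF : KFlat (DCoh.tensorBi (X := Y)) F)
    (G : CochainComplex X.Modules ℤ)
    (eG : DCoh.toD X G ≅ (DCoh.Lpull f).obj (DCoh.toD Y F)) :
    DerivedCategory.Q.obj ((DCoh.restrictCx (f ⁻¹ᵁ V)).obj G) ≅
      (DCoh.Lpull (f ∣_ V)).obj (DerivedCategory.Q.obj ((DCoh.restrictCx V).obj F)) :=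
  restrictDIso (f ⁻¹ᵁ V) G ≪≫
    (restrictD (f ⁻¹ᵁ V)).mapIso (eG ≪≫ LpullIso f F hF) ≪≫
    (restrictDIso (f ⁻¹ᵁ V) ((pullC f).obj F)).symm ≪≫
    DerivedCategory.Q.mapIso (pullRestrictCxIso f V F) ≪≫
    (LpullIso (f ∣_ V) _ (kflat_restrict V F hF)).symm

/-- The local step in the proof that `Lf^*` preserves pseudo-coherent objects. -/
theorem pcoh_pull_aux (f : X ⟶ Y) [DCoh.HasLpull f] (V : Y.Opens)
    (F : CochainComplex Y.Modules ℤ) (hF : KFlat (DCoh.tensorBi (X := Y)) F)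
    (P : CochainComplex (V : Scheme.{u}).Modules ℤ) (hP : DCoh.IsStrictlyPerfect P)
    (α : DerivedCategory.Q.obj P ⟶ DerivedCategory.Q.obj ((DCoh.restrictCx V).obj F)) (m : ℤ)
    (h1 : ∀ i : ℤ, m < i → IsIso ((DerivedCategory.homologyFunctor _ i).map α))
    (h2 : Epi ((DerivedCategory.homologyFunctor _ m).map α))
    (G : CochainComplex X.Modules ℤ)
    (eG : DCoh.toD X G ≅ (DCoh.Lpull f).obj (DCoh.toD Y F)) :
    ∃ (E : CochainComplex ((f ⁻¹ᵁ V : X.Opens) : Scheme.{u}).Modules ℤ)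
      (α' : DerivedCategory.Q.obj E ⟶ DerivedCategory.Q.obj ((DCoh.restrictCx (f ⁻¹ᵁ V)).obj G)),
      DCoh.IsStrictlyPerfect E ∧
      (∀ i : ℤ, m < i → IsIso ((DerivedCategory.homologyFunctor _ i).map α')) ∧
      Epi ((DerivedCategory.homologyFunctor _ m).map α') := by
  haveI := hasLpull (f ∣_ V)
  obtain ⟨cs, tri⟩ := exists_isTriangulated_Lpull (f ∣_ V)
  obtain ⟨k1, k2⟩ := RightTri.pcoh_map (DCoh.Lpull (f ∣_ V)) (isZero_homology_Lpull (f ∣_ V))
    α m h1 h2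
  let e₁ := LpullIso (f ∣_ V) P (kflat_of_isStrictlyPerfect P hP)
  let e₂ := pullRestrictDIso f V F hF G eG
  refine ⟨(pullC (f ∣_ V)).obj P, e₁.inv ≫ (DCoh.Lpull (f ∣_ V)).map α ≫ e₂.inv,
    isStrictlyPerfect_pull _ P hP, fun i hi => ?_, ?_⟩
  · haveI := k1 i hi
    rw [Functor.map_comp, Functor.map_comp]
    infer_instance
  · haveI := k2
    rw [Functor.map_comp, Functor.map_comp]
    infer_instance

end Groth.Agent.Lib.Helper2.Stk
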