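import Groth.Agent.Lib.Helper2.Stk.PreTensor

/-!
# Stalk maps of morphisms of presheaves of modules

Linearity, compatibility with the tensor product, and bijectivity for locally bijective morphisms.
-/

set_option autoImplicit false
universe u
open CategoryTheory CategoryTheory.Limits TopologicalSpace Opposite MonoidalCategory TensorProduct
open Groth.Agent.Lib.Helper13.TensorLocal

namespace Groth.Agent.Lib.Helper2.Stk

variable {X : TopCat.{u}} {R : X.Presheaf CommRingCat.{u}}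

/-- The map induced on stalks by a morphism of presheaves of modules. -/
noncomputable def stMap {P P' : PresheafOfModules.{u} (R ⋙ forget₂ _ _)} (f : P ⟶ P') (x : X) :
    St P x →+ St P' x :=
  ((TopCat.Presheaf.stalkFunctor Ab x).map ((PresheafOfModules.toPresheaf _).map f)).hom

lemma stMap_gm {P P' : PresheafOfModules.{u} (R ⋙ forget₂ _ _)} (f : P ⟶ P') (x : X)
    (U : Opens X) (hx : x ∈ U) (s : P.obj (op U)) :
    stMap f x (gm P U x hx s) = gm P' U x hx (f.app (op U) s) :=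
  TopCat.Presheaf.stalkFunctor_map_germ_apply U x hx ((PresheafOfModules.toPresheaf _).map f) s

lemma stMap_id (P : PresheafOfModules.{u} (R ⋙ forget₂ _ _)) (x : X) (a : St P x) :
    stMap (𝟙 P) x a = a := by
  obtain ⟨U, hx, s, rfl⟩ := gm_surjective P x a
  rw [stMap_gm]
  rfl

lemma stMap_comp {P P' P'' : PresheafOfModules.{u} (R ⋙ forget₂ _ _)} (f : P ⟶ P')
    (g : P' ⟶ P'') (x : X) (a : St P x) :
    stMap (f ≫ g) x a = stMap g x (stMap f x a) := by
  obtain ⟨U, hx, s, rfl⟩ := gm_surjective P x a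
  rw [stMap_gm, stMap_gm, stMap_gm]
  rfl

lemma stMap_smul {P P' : PresheafOfModules.{u} (R ⋙ forget₂ _ _)} (f : P ⟶ P') (x : X)
    (r : R.stalk x) (a : St P x) : stMap f x (r • a) = r • stMap f x a := by
  obtain ⟨U, hx, ρ, s, _, rfl, rfl, _⟩ := exists_repR P P x r a a
  rw [← gm_smul, stMap_gm, stMap_gm, ← gm_smul]
  congr 1
  exact (f.app (op U)).hom.map_smul ρ s

/-- The stalk map as a linear map. -/
noncomputable def stMapₗ {P P' : PresheafOfModules.{u} (R ⋙ forget₂ _ _)} (f : P ⟶ P') (x : X) :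
    St P x →ₗ[R.stalk x] St P' x :=
  { stMap f x with
    map_smul' := stMap_smul f x }

lemma stMapₗ_apply {P P' : PresheafOfModules.{u} (R ⋙ forget₂ _ _)} (f : P ⟶ P') (x : X)
    (a : St P x) : stMapₗ f x a = stMap f x a := rfl

lemma tensorHom_app_tmul {P P' Q Q' : PresheafOfModules.{u} (R ⋙ forget₂ _ _)} (f : P ⟶ P')
    (g : Q ⟶ Q') (U : Opens X) (m : P.obj (op U)) (n : Q.obj (op U)) :
    (f ⊗ₘ g).app (op U) (m ⊗ₜ[R.obj (op U)] n) =
      (f.app (op U) m) ⊗ₜ[R.obj (op U)] (g.app (op U) n) := rfl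

/-- Naturality of the comparison map. -/
lemma tensorStalkEquiv_naturality {P P' Q Q' : PresheafOfModules.{u} (R ⋙ forget₂ _ _)}
    (f : P ⟶ P') (g : Q ⟶ Q') (x : X) (z : St P x ⊗[R.stalk x] St Q x) :
    stMap (f ⊗ₘ g) x (tensorStalkEquiv P Q x z) =
      tensorStalkEquiv P' Q' x (TensorProduct.map (stMapₗ f x) (stMapₗ g x) z) := by
  induction z using TensorProduct.induction_on with
  | zero => simp
  | tmul a b =>
    obtain ⟨U, hx, s, t, rfl, rfl⟩ := exists_rep₂ P Q x a b
    rw [tensorStalkEquiv_tmul_gm, stMap_gm, TensorProduct.map_tmul, stMapₗ_apply, stMapₗ_apply,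
      stMap_gm, stMap_gm, tensorStalkEquiv_tmul_gm, tensorHom_app_tmul]
  | add a b ha hb => rw [map_add, map_add, map_add, map_add, ha, hb]

lemma gm_eq_zero (P : PresheafOfModules.{u} (R ⋙ forget₂ _ _)) {U : Opens X} (x : X)
    (hx : x ∈ U) (s : P.obj (op U)) (h : gm P U x hx s = 0) :
    ∃ (W : Opens X) (hWU : W ≤ U), x ∈ W ∧ rs P hWU s = 0 := by
  have h' : gm P U x hx s = gm P U x hx 0 := by rw [h, map_zero]
  obtain ⟨W, hWU, hWU', hxW, e⟩ := gm_eq P x hx hx s 0 h'
  exact ⟨W, hWU, hxW, by rw [e, map_zero]⟩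

theorem stMap_injective_of_locInj {P P' : PresheafOfModules.{u} (R ⋙ forget₂ _ _)} (f : P ⟶ P')
    (hf : LocInj (Opens.grothendieckTopology X) f) (x : X) : Function.Injective (stMap f x) := by
  rw [injective_iff_map_eq_zero]
  intro a ha
  obtain ⟨U, hx, s, rfl⟩ := gm_surjective P x a
  rw [stMap_gm] at ha
  obtain ⟨W, hWU, hxW, hW⟩ := gm_eq_zero P' x hx _ ha
  have h1 : f.app (op W) (rs P hWU s) = 0 := by
    have := PresheafOfModules.naturality_apply f (homOfLE hWU).op s
    exact this.trans hW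
  obtain ⟨S, hS, hS'⟩ := hf W (rs P hWU s) h1
  obtain ⟨V, g, hg, hxV⟩ := hS x hxW
  have h2 : rs P g.le (rs P hWU s) = 0 := hS' g hg
  rw [← gm_res P hWU x hxW, ← gm_res P g.le x hxV, h2, map_zero]

theorem stMap_surjective_of_locSurj {P P' : PresheafOfModules.{u} (R ⋙ forget₂ _ _)}
    (f : P ⟶ P') (hf : LocSurj (Opens.grothendieckTopology X) f) (x : X) :
    Function.Surjective (stMap f x) := by
  intro b
  obtain ⟨U, hx, s', rfl⟩ := gm_surjective P' x b
  obtain ⟨S, hS, hS'⟩ := hf U s'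
  obtain ⟨V, g, hg, hxV⟩ := hS x hx
  obtain ⟨t, ht⟩ := hS' g hg
  refine ⟨gm P V x hxV t, ?_⟩
  rw [stMap_gm, ht]
  exact gm_res P' g.le x hxV s'

theorem stMap_bijective {P P' : PresheafOfModules.{u} (R ⋙ forget₂ _ _)} (f : P ⟶ P')
    (hi : LocInj (Opens.grothendieckTopology X) f)
    (hs : LocSurj (Opens.grothendieckTopology X) f) (x : X) : Function.Bijective (stMap f x) :=
  ⟨stMap_injective_of_locInj f hi x, stMap_surjective_of_locSurj f hs x⟩

end Groth.Agent.Lib.Helper2.Stk
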