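import Mathlib
import Groth.Agent.Lib.Helper21.StalkFlatC

/-!
# Stalks of the tensor product of presheaves of modules on a topological space

For presheaves of modules `P`, `Q` over a presheaf of commutative rings `R` on a topological space,
the stalk of the (sectionwise) tensor product is the tensor product of the stalks over the stalk
of `R`.
-/

set_option autoImplicit false
universe u
open CategoryTheory CategoryTheory.Limits TopologicalSpace Opposite MonoidalCategory TensorProduct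

namespace Groth.Agent.Lib.Helper2.Stk

variable {X : TopCat.{u}} {R : X.Presheaf CommRingCat.{u}}

/-- The stalk of a presheaf of modules (as a type, carrying Mathlib's module structure over the stalk
of the presheaf of rings). -/
abbrev St (P : PresheafOfModules.{u} (R ⋙ forget₂ _ _)) (x : X) : Type u :=
  ↑(TopCat.Presheaf.stalk P.presheaf x)

/-- The germ map as an additive map. -/
noncomputable def gm (P : PresheafOfModules.{u} (R ⋙ forget₂ _ _)) (U : Opens X) (x : X)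
    (hx : x ∈ U) : P.obj (op U) →+ St P x :=
  (TopCat.Presheaf.germ P.presheaf U x hx).hom

lemma gm_apply (P : PresheafOfModules.{u} (R ⋙ forget₂ _ _)) (U : Opens X) (x : X)
    (hx : x ∈ U) (s : P.obj (op U)) :
    gm P U x hx s = TopCat.Presheaf.germ P.presheaf U x hx s := rfl

lemma gm_smul (P : PresheafOfModules.{u} (R ⋙ forget₂ _ _)) (U : Opens X) (x : X)
    (hx : x ∈ U) (r : R.obj (op U)) (s : P.obj (op U)) :
    gm P U x hx (r • s) = (R.germ U x hx r) • gm P U x hx s :=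
  PresheafOfModules.germ_smul P x U hx r s

/-- Restriction of sections, as an additive map. -/
noncomputable def rs (P : PresheafOfModules.{u} (R ⋙ forget₂ _ _)) {U V : Opens X} (hVU : V ≤ U) :
    P.obj (op U) →+ P.obj (op V) :=
  (P.presheaf.map (homOfLE hVU).op).hom

lemma gm_res (P : PresheafOfModules.{u} (R ⋙ forget₂ _ _)) {U V : Opens X} (hVU : V ≤ U)
    (x : X) (hx : x ∈ V) (s : P.obj (op U)) :
    gm P V x hx (rs P hVU s) = gm P U x (hVU hx) s :=
  TopCat.Presheaf.germ_res_apply P.presheaf (homOfLE hVU) x hx s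

lemma rs_rs (P : PresheafOfModules.{u} (R ⋙ forget₂ _ _)) {U V W : Opens X} (hVU : V ≤ U)
    (hWV : W ≤ V) (s : P.obj (op U)) :
    rs P hWV (rs P hVU s) = rs P (hWV.trans hVU) s := by
  show (P.presheaf.map (homOfLE hWV).op) ((P.presheaf.map (homOfLE hVU).op) s) = _
  rw [← ConcreteCategory.comp_apply, ← P.presheaf.map_comp]
  rfl

lemma rs_smul (P : PresheafOfModules.{u} (R ⋙ forget₂ _ _)) {U V : Opens X} (hVU : V ≤ U)
    (r : R.obj (op U)) (s : P.obj (op U)) :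
    rs P hVU (r • s) = (R.map (homOfLE hVU).op r) • rs P hVU s :=
  P.map_smul (homOfLE hVU).op r s

lemma gm_surjective (P : PresheafOfModules.{u} (R ⋙ forget₂ _ _)) (x : X) (a : St P x) :
    ∃ (U : Opens X) (hx : x ∈ U) (s : P.obj (op U)), gm P U x hx s = a :=
  TopCat.Presheaf.exists_germ_eq P.presheaf a

lemma gm_eq (P : PresheafOfModules.{u} (R ⋙ forget₂ _ _)) {U V : Opens X} (x : X)
    (hxU : x ∈ U) (hxV : x ∈ V) (s : P.obj (op U)) (t : P.obj (op V))
    (h : gm P U x hxU s = gm P V x hxV t) :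
    ∃ (W : Opens X) (hWU : W ≤ U) (hWV : W ≤ V), x ∈ W ∧
      rs P hWU s = rs P hWV t := by
  obtain ⟨W, hxW, iU, iV, he⟩ := TopCat.Presheaf.germ_eq P.presheaf x hxU hxV s t h
  exact ⟨W, iU.le, iV.le, hxW, he⟩

/-- The tensor product of the germ maps. -/
noncomputable def tau (P Q : PresheafOfModules.{u} (R ⋙ forget₂ _ _)) (U : Opens X) (x : X)
    (hx : x ∈ U) :
    (↑(P.obj (op U)) ⊗[R.obj (op U)] ↑(Q.obj (op U))) →+ (St P x ⊗[R.stalk x] St Q x) :=
  TensorProduct.liftAddHom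
    (AddMonoidHom.mk' (fun m => ((TensorProduct.mk (R.stalk x) (St P x) (St Q x)
        (gm P U x hx m)).toAddMonoidHom).comp (gm Q U x hx))
      (fun a b => by
        ext n
        simp only [map_add, AddMonoidHom.coe_comp, Function.comp_apply, AddMonoidHom.add_apply,
          LinearMap.toAddMonoidHom_coe, LinearMap.add_apply]))
    (fun r m n => by
      show (gm P U x hx (r • m)) ⊗ₜ[R.stalk x] (gm Q U x hx n) =
        (gm P U x hx m) ⊗ₜ[R.stalk x] (gm Q U x hx (r • n))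
      rw [gm_smul, gm_smul, TensorProduct.smul_tmul])

lemma tau_tmul (P Q : PresheafOfModules.{u} (R ⋙ forget₂ _ _)) (U : Opens X) (x : X)
    (hx : x ∈ U) (m : P.obj (op U)) (n : Q.obj (op U)) :
    tau P Q U x hx (m ⊗ₜ n) = (gm P U x hx m) ⊗ₜ[R.stalk x] (gm Q U x hx n) := rfl

lemma addHom_ext {A : Type*} [CommRing A] {M N B : Type*} [AddCommGroup M] [Module A M]
    [AddCommGroup N] [Module A N] [AddCommMonoid B] {f g : M ⊗[A] N →+ B}
    (h : ∀ m n, f (m ⊗ₜ n) = g (m ⊗ₜ n)) : f = g := by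
  ext z
  induction z using TensorProduct.induction_on with
  | zero => simp
  | tmul m n => exact h m n
  | add a b ha hb => rw [map_add, map_add, ha, hb]

/-- The restriction map of the tensor product presheaf, as an additive map between tensor products. -/
noncomputable def resT (P Q : PresheafOfModules.{u} (R ⋙ forget₂ _ _)) {U V : Opens X}
    (hVU : V ≤ U) :
    (↑(P.obj (op U)) ⊗[R.obj (op U)] ↑(Q.obj (op U))) →+
      (↑(P.obj (op V)) ⊗[R.obj (op V)] ↑(Q.obj (op V))) :=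
  ((P ⊗ Q).presheaf.map (homOfLE hVU).op).hom

lemma resT_tmul (P Q : PresheafOfModules.{u} (R ⋙ forget₂ _ _)) {U V : Opens X}
    (hVU : V ≤ U) (m : P.obj (op U)) (n : Q.obj (op U)) :
    resT P Q hVU (m ⊗ₜ[R.obj (op U)] n) =
      (rs P hVU m) ⊗ₜ[R.obj (op V)] (rs Q hVU n) := rfl

lemma tau_res (P Q : PresheafOfModules.{u} (R ⋙ forget₂ _ _)) {U V : Opens X}
    (hVU : V ≤ U) (x : X) (hx : x ∈ V) :
    (tau P Q V x hx).comp (resT P Q hVU) = tau P Q U x (hVU hx) := by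
  apply addHom_ext
  intro m n
  rw [AddMonoidHom.comp_apply, resT_tmul, tau_tmul, tau_tmul, gm_res, gm_res]

/-- The comparison map from the stalk of the tensor product to the tensor product of the stalks. -/
noncomputable def toT (P Q : PresheafOfModules.{u} (R ⋙ forget₂ _ _)) (x : X) :
    St (P ⊗ Q) x →+ (St P x ⊗[R.stalk x] St Q x) :=
  (colimit.desc ((OpenNhds.inclusion x).op ⋙ (P ⊗ Q).presheaf)
    { pt := AddCommGrpCat.of (St P x ⊗[R.stalk x] St Q x)
      ι :=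
        { app := fun U => AddCommGrpCat.ofHom (tau P Q U.unop.1 x U.unop.2)
          naturality := by
            intro U V f
            ext z
            have h := DFunLike.congr_fun (tau_res P Q (leOfHom f.unop) x V.unop.2) z
            exact h } }).hom

lemma toT_gm (P Q : PresheafOfModules.{u} (R ⋙ forget₂ _ _)) (x : X) (U : Opens X) (hx : x ∈ U)
    (z : (P ⊗ Q).obj (op U)) :
    toT P Q x (gm (P ⊗ Q) U x hx z) = tau P Q U x hx z := by
  have h := colimit.ι_desc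
    ({ pt := AddCommGrpCat.of (St P x ⊗[R.stalk x] St Q x)
       ι :=
        { app := fun U => AddCommGrpCat.ofHom (tau P Q U.unop.1 x U.unop.2)
          naturality := by
            intro U V f
            ext z
            have h := DFunLike.congr_fun (tau_res P Q (leOfHom f.unop) x V.unop.2) z
            exact h } } : Cocone ((OpenNhds.inclusion x).op ⋙ (P ⊗ Q).presheaf))
    (op ⟨U, hx⟩)
  exact ConcreteCategory.congr_hom h z

lemma toT_gm_tmul (P Q : PresheafOfModules.{u} (R ⋙ forget₂ _ _)) (x : X) (U : Opens X)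
    (hx : x ∈ U) (m : P.obj (op U)) (n : Q.obj (op U)) :
    toT P Q x (gm (P ⊗ Q) U x hx (m ⊗ₜ[R.obj (op U)] n)) =
      (gm P U x hx m) ⊗ₜ[R.stalk x] (gm Q U x hx n) :=
  toT_gm P Q x U hx _

/-! ### The inverse map -/

lemma exists_rep₂ (P Q : PresheafOfModules.{u} (R ⋙ forget₂ _ _)) (x : X) (a : St P x)
    (b : St Q x) :
    ∃ (U : Opens X) (hx : x ∈ U) (s : P.obj (op U)) (t : Q.obj (op U)),
      gm P U x hx s = a ∧ gm Q U x hx t = b := by
  obtain ⟨U₁, hx₁, s₁, h₁⟩ := gm_surjective P x a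
  obtain ⟨U₂, hx₂, t₂, h₂⟩ := gm_surjective Q x b
  refine ⟨U₁ ⊓ U₂, ⟨hx₁, hx₂⟩, rs P inf_le_left s₁, rs Q inf_le_right t₂, ?_, ?_⟩
  · rw [gm_res, h₁]
  · rw [gm_res, h₂]

lemma exists_rep₃ (P Q Q' : PresheafOfModules.{u} (R ⋙ forget₂ _ _)) (x : X) (a : St P x)
    (b : St Q x) (c : St Q' x) :
    ∃ (U : Opens X) (hx : x ∈ U) (s : P.obj (op U)) (t : Q.obj (op U)) (t' : Q'.obj (op U)),
      gm P U x hx s = a ∧ gm Q U x hx t = b ∧ gm Q' U x hx t' = c := by
  obtain ⟨U₁, hx₁, s₁, t₁, h₁, h₁'⟩ := exists_rep₂ P Q x a b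
  obtain ⟨U₂, hx₂, t₂, h₂⟩ := gm_surjective Q' x c
  refine ⟨U₁ ⊓ U₂, ⟨hx₁, hx₂⟩, rs P inf_le_left s₁, rs Q inf_le_left t₁, rs Q' inf_le_right t₂,
    ?_, ?_, ?_⟩
  · rw [gm_res, h₁]
  · rw [gm_res, h₁']
  · rw [gm_res, h₂]

lemma exists_repR (P Q : PresheafOfModules.{u} (R ⋙ forget₂ _ _)) (x : X) (r : R.stalk x)
    (a : St P x) (b : St Q x) :
    ∃ (U : Opens X) (hx : x ∈ U) (ρ : R.obj (op U)) (s : P.obj (op U)) (t : Q.obj (op U)),
      R.germ U x hx ρ = r ∧ gm P U x hx s = a ∧ gm Q U x hx t = b := by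
  obtain ⟨U₁, hx₁, s₁, t₁, h₁, h₁'⟩ := exists_rep₂ P Q x a b
  obtain ⟨U₂, hx₂, ρ₂, h₂⟩ := TopCat.Presheaf.exists_germ_eq R r
  refine ⟨U₁ ⊓ U₂, ⟨hx₁, hx₂⟩, R.map (homOfLE inf_le_right).op ρ₂, rs P inf_le_left s₁,
    rs Q inf_le_left t₁, ?_, ?_, ?_⟩
  · rw [TopCat.Presheaf.germ_res_apply, h₂]
  · rw [gm_res, h₁]
  · rw [gm_res, h₁']

lemma gm_tensor_res (P Q : PresheafOfModules.{u} (R ⋙ forget₂ _ _)) {U V : Opens X} (hVU : V ≤ U)
    (x : X) (hx : x ∈ V) (m : P.obj (op U)) (n : Q.obj (op U)) :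
    gm (P ⊗ Q) V x hx ((rs P hVU m) ⊗ₜ[R.obj (op V)] (rs Q hVU n)) =
      gm (P ⊗ Q) U x (hVU hx) (m ⊗ₜ[R.obj (op U)] n) :=
  gm_res (P ⊗ Q) hVU x hx (m ⊗ₜ[R.obj (op U)] n)

lemma gm_tensor_eq_of (P Q : PresheafOfModules.{u} (R ⋙ forget₂ _ _)) (x : X)
    {U U' : Opens X} (hx : x ∈ U) (hx' : x ∈ U') (s : P.obj (op U)) (t : Q.obj (op U))
    (s' : P.obj (op U')) (t' : Q.obj (op U'))
    (hs' : gm P U' x hx' s' = gm P U x hx s) (ht' : gm Q U' x hx' t' = gm Q U x hx t) :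
    gm (P ⊗ Q) U' x hx' (s' ⊗ₜ[R.obj (op U')] t') = gm (P ⊗ Q) U x hx (s ⊗ₜ[R.obj (op U)] t) := by
  obtain ⟨W₁, hW₁U', hW₁U, hxW₁, e₁⟩ := gm_eq P x hx' hx s' s hs'
  obtain ⟨W₂, hW₂U', hW₂U, hxW₂, e₂⟩ := gm_eq Q x hx' hx t' t ht'
  have hxW : x ∈ W₁ ⊓ W₂ := ⟨hxW₁, hxW₂⟩
  have hWU' : W₁ ⊓ W₂ ≤ U' := inf_le_left.trans hW₁U'
  have hWU : W₁ ⊓ W₂ ≤ U := inf_le_left.trans hW₁U
  rw [← gm_tensor_res P Q hWU' x hxW, ← gm_tensor_res P Q hWU x hxW]
  have e₁' : rs P hWU' s' = rs P hWU s := by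
    rw [← rs_rs P hW₁U' inf_le_left, ← rs_rs P hW₁U inf_le_left, e₁]
  have e₂' : rs Q hWU' t' = rs Q hWU t := by
    rw [← rs_rs Q hW₂U' inf_le_right, ← rs_rs Q hW₂U inf_le_right, e₂]
  rw [e₁', e₂']

/-- A pair of representatives of a pair of germs on a common neighbourhood. -/
structure Rep₂ (P Q : PresheafOfModules.{u} (R ⋙ forget₂ _ _)) (x : X) (a : St P x)
    (b : St Q x) where
  U : Opens X
  hx : x ∈ U
  s : P.obj (op U)
  t : Q.obj (op U)
  hs : gm P U x hx s = a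
  ht : gm Q U x hx t = b

/-- Chosen representatives. -/
noncomputable def rep₂ (P Q : PresheafOfModules.{u} (R ⋙ forget₂ _ _)) (x : X) (a : St P x)
    (b : St Q x) : Rep₂ P Q x a b :=
  Classical.choice (by
    obtain ⟨U, hx, s, t, hs, ht⟩ := exists_rep₂ P Q x a b
    exact ⟨⟨U, hx, s, t, hs, ht⟩⟩)

/-- The bilinear pairing on germs, defined through chosen representatives. -/
noncomputable def bil₀ (P Q : PresheafOfModules.{u} (R ⋙ forget₂ _ _)) (x : X) (a : St P x)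
    (b : St Q x) : St (P ⊗ Q) x :=
  gm (P ⊗ Q) (rep₂ P Q x a b).U x (rep₂ P Q x a b).hx
    ((rep₂ P Q x a b).s ⊗ₜ[R.obj (op _)] (rep₂ P Q x a b).t)

lemma bil₀_gm (P Q : PresheafOfModules.{u} (R ⋙ forget₂ _ _)) (x : X) (U : Opens X) (hx : x ∈ U)
    (s : P.obj (op U)) (t : Q.obj (op U)) :
    bil₀ P Q x (gm P U x hx s) (gm Q U x hx t) = gm (P ⊗ Q) U x hx (s ⊗ₜ[R.obj (op U)] t) :=
  gm_tensor_eq_of P Q x hx _ s t _ _ (rep₂ P Q x _ _).hs (rep₂ P Q x _ _).ht

lemma bil₀_add_left (P Q : PresheafOfModules.{u} (R ⋙ forget₂ _ _)) (x : X) (a a' : St P x)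
    (b : St Q x) : bil₀ P Q x (a + a') b = bil₀ P Q x a b + bil₀ P Q x a' b := by
  obtain ⟨U, hx, t, s, s', rfl, rfl, rfl⟩ := exists_rep₃ Q P P x b a a'
  rw [← map_add, bil₀_gm, bil₀_gm, bil₀_gm, ← map_add, TensorProduct.add_tmul]
  rfl

lemma bil₀_add_right (P Q : PresheafOfModules.{u} (R ⋙ forget₂ _ _)) (x : X) (a : St P x)
    (b b' : St Q x) : bil₀ P Q x a (b + b') = bil₀ P Q x a b + bil₀ P Q x a b' := by
  obtain ⟨U, hx, s, t, t', rfl, rfl, rfl⟩ := exists_rep₃ P Q Q x a b b'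
  rw [← map_add, bil₀_gm, bil₀_gm, bil₀_gm, ← map_add, TensorProduct.tmul_add]
  rfl

lemma bil₀_smul_left (P Q : PresheafOfModules.{u} (R ⋙ forget₂ _ _)) (x : X) (r : R.stalk x)
    (a : St P x) (b : St Q x) : bil₀ P Q x (r • a) b = r • bil₀ P Q x a b := by
  obtain ⟨U, hx, ρ, s, t, rfl, rfl, rfl⟩ := exists_repR P Q x r a b
  rw [← gm_smul, bil₀_gm, bil₀_gm, ← gm_smul (P ⊗ Q)]
  rfl

lemma bil₀_smul_right (P Q : PresheafOfModules.{u} (R ⋙ forget₂ _ _)) (x : X) (r : R.stalk x)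
    (a : St P x) (b : St Q x) : bil₀ P Q x a (r • b) = r • bil₀ P Q x a b := by
  obtain ⟨U, hx, ρ, s, t, rfl, rfl, rfl⟩ := exists_repR P Q x r a b
  rw [← gm_smul, bil₀_gm, bil₀_gm, ← gm_smul (P ⊗ Q)]
  congr 1
  exact (TensorProduct.smul_tmul ρ s t).symm

/-- The bilinear pairing `M_x × N_x → (M ⊗ N)_x`. -/
noncomputable def bil (P Q : PresheafOfModules.{u} (R ⋙ forget₂ _ _)) (x : X) :
    St P x →ₗ[R.stalk x] St Q x →ₗ[R.stalk x] St (P ⊗ Q) x :=
  LinearMap.mk₂ (R.stalk x) (bil₀ P Q x) (bil₀_add_left P Q x) (bil₀_smul_left P Q x)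
    (bil₀_add_right P Q x) (bil₀_smul_right P Q x)

/-- The comparison map from the tensor product of the stalks to the stalk of the tensor product. -/
noncomputable def fromT (P Q : PresheafOfModules.{u} (R ⋙ forget₂ _ _)) (x : X) :
    (St P x ⊗[R.stalk x] St Q x) →ₗ[R.stalk x] St (P ⊗ Q) x :=
  TensorProduct.lift (bil P Q x)

lemma fromT_tmul_gm (P Q : PresheafOfModules.{u} (R ⋙ forget₂ _ _)) (x : X) (U : Opens X)
    (hx : x ∈ U) (s : P.obj (op U)) (t : Q.obj (op U)) :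
    fromT P Q x ((gm P U x hx s) ⊗ₜ[R.stalk x] (gm Q U x hx t)) =
      gm (P ⊗ Q) U x hx (s ⊗ₜ[R.obj (op U)] t) := by
  show bil₀ P Q x _ _ = _
  exact bil₀_gm P Q x U hx s t

lemma fromT_toT (P Q : PresheafOfModules.{u} (R ⋙ forget₂ _ _)) (x : X) (z : St (P ⊗ Q) x) :
    fromT P Q x (toT P Q x z) = z := by
  obtain ⟨U, hx, w, rfl⟩ := gm_surjective (P ⊗ Q) x z
  have key : ((fromT P Q x).toAddMonoidHom.comp (toT P Q x)).comp (gm (P ⊗ Q) U x hx) =
      gm (P ⊗ Q) U x hx := by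
    apply addHom_ext (A := R.obj (op U)) (M := P.obj (op U)) (N := Q.obj (op U))
    intro m n
    show fromT P Q x (toT P Q x (gm (P ⊗ Q) U x hx (m ⊗ₜ[R.obj (op U)] n))) = _
    rw [toT_gm_tmul, fromT_tmul_gm]
    rfl
  exact DFunLike.congr_fun key w

lemma toT_fromT (P Q : PresheafOfModules.{u} (R ⋙ forget₂ _ _)) (x : X)
    (z : St P x ⊗[R.stalk x] St Q x) : toT P Q x (fromT P Q x z) = z := by
  induction z using TensorProduct.induction_on with
  | zero => simp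
  | tmul a b =>
    obtain ⟨U, hx, s, t, rfl, rfl⟩ := exists_rep₂ P Q x a b
    rw [fromT_tmul_gm, toT_gm_tmul]
  | add a b ha hb => rw [map_add, map_add, ha, hb]

/-- The stalk of the tensor product of presheaves of modules is the tensor product of the stalks. -/
noncomputable def tensorStalkEquiv (P Q : PresheafOfModules.{u} (R ⋙ forget₂ _ _)) (x : X) :
    (St P x ⊗[R.stalk x] St Q x) ≃ₗ[R.stalk x] St (P ⊗ Q) x :=
  { fromT P Q x with
    invFun := toT P Q x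
    left_inv := toT_fromT P Q x
    right_inv := fromT_toT P Q x }

lemma tensorStalkEquiv_tmul_gm (P Q : PresheafOfModules.{u} (R ⋙ forget₂ _ _)) (x : X)
    (U : Opens X) (hx : x ∈ U) (s : P.obj (op U)) (t : Q.obj (op U)) :
    tensorStalkEquiv P Q x ((gm P U x hx s) ⊗ₜ[R.stalk x] (gm Q U x hx t)) =
      gm (P ⊗ Q) U x hx (s ⊗ₜ[R.obj (op U)] t) :=
  fromT_tmul_gm P Q x U hx s t

lemma tensorStalkEquiv_symm_gm (P Q : PresheafOfModules.{u} (R ⋙ forget₂ _ _)) (x : X)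
    (U : Opens X) (hx : x ∈ U) (s : P.obj (op U)) (t : Q.obj (op U)) :
    (tensorStalkEquiv P Q x).symm (gm (P ⊗ Q) U x hx (s ⊗ₜ[R.obj (op U)] t)) =
      (gm P U x hx s) ⊗ₜ[R.stalk x] (gm Q U x hx t) :=
  toT_gm_tmul P Q x U hx s t

end Groth.Agent.Lib.Helper2.Stk
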