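import Groth.Prelude
import Groth.Agent.Lib.Helper5.GenTrunc
import Groth.Agent.Lib.Helper5.ModGen
import Groth.Agent.Lib.Helper5.CohBasis

/-!
# S9042 of helper5, restated for an arbitrary model of the derived category (helper2)
-/

set_option autoImplicit false
universe w u
open CategoryTheory CategoryTheory.Limits Opposite
open ModSite

namespace Groth.Agent.Lib.Helper2.Stk

/-- helper5's S9042 with a universe-polymorphic `HasDerivedCategory` instance. -/
theorem isRlimVia_truncTower_of_vanishing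
    {C : Type u} [SmallCategory C] {J : GrothendieckTopology C} (O : Sheaf J CommRingCat.{u})
    [HasDerivedCategory.{w} (ModSite.Mod O)] (E : DerivedCategory (ModSite.Mod O))
    [HasProduct (CohCx.truncTower E)] (B : Set C)
    (hB : ∀ U : C, ∃ (ι : Type u) (Y : ι → C) (f : ∀ i, Y i ⟶ U), Sieve.ofArrows Y f ∈ J U ∧ ∀ i, Y i ∈ B)
    (p : ℤ → ℤ)
    (h : ∀ V ∈ B, ∀ (m : ℤ) (k : ℕ), p m < k →
      Subsingleton (ModSite.HU O ((DerivedCategory.homologyFunctor (ModSite.Mod O) (m - k)).obj E) k V)) :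
    CohCx.IsRlimVia (CohCx.truncTower E) (CohCx.truncTowerMap E) E (CohCx.toTruncTower E) := by
  open Groth.Agent.Lib.Helper5 Groth.Agent.Lib.Helper2.ModHomAcyclic in
  apply GenSite.isRlimVia_trunc E (ModGen.gen O) B hB
  intro V hV m
  refine ⟨(p m - m).toNat + (-m).toNat, fun T hT => ?_⟩
  obtain ⟨ι, Y, f, hTf, hcov, hYB⟩ := CohBasis.exists_B_family B hB V T hT
  refine ⟨ι, Y, f, hTf, hcov, fun i n hn => ?_⟩
  apply GenSite.goodAt_truncTower E _ m n (m + n + 1) rfl
  intro z'
  have h0 := h (Y i) (hYB i) m (m + n + 1).toNat (by omega)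
  have e : m - ((m + n + 1).toNat : ℤ) = -((n : ℤ) + 1) := by omega
  rw [e] at h0
  exact ModGen.extVanish O _ (Y i) (m + n + 1).toNat (m + n + 1) (by omega) z'

end Groth.Agent.Lib.Helper2.Stk
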